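/-
Counting classes of 2-elements (for statement S3896).

* `two_mul_classes_ne` : a 2-group (indeed any finite group) never has exactly `|P| / 2` classes
  when its derived subgroup is small; in general `2 k(P) ≠ |P|` for a 2-group `P`
* `card_pClasses_le_two_mul` : passing to the quotient by a central involution
* `center_lift` : in the equality case the centre lifts
-/
import Cfsg.Agent.Lib.IsolatedElts.Basic
import Cfsg.Agent.Lib.Char.Linear
import Cfsg.Agent.Lib.Cores.Basic
import Cfsg.Agent.S0215

set_option autoImplicit false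

namespace Cfsg.Agent.HalfClasses

open Cfsg IsolatedElts

universe u

variable {G : Type u} [Group G] [Finite G]

/-- A 2-group never has exactly half as many classes as elements. -/
theorem two_mul_classes_ne (hG : IsPGroup 2 G) :
    2 * Nat.card (ConjClasses G) ≠ Nat.card G := by
  classical
  haveI := Fintype.ofFinite G
  haveI := Fintype.ofFinite (IrrCharacter G)
  intro hk
  choose d hd0 hd using fun χ : IrrCharacter G => Char.IsIrrCharacter.exists_degree χ.2
  have hsum : ∑ χ : IrrCharacter G, d χ ^ 2 = Nat.card G := by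
    have h := Char.sum_sq_degrees (G := G)
    simp only [hd] at h
    exact_mod_cast h
  have hlin : (Finset.univ.filter fun χ : IrrCharacter G => d χ = 1).card = (commutator G).index := by
    rw [← Char.card_linear_irr, ← Fintype.card_subtype, ← Nat.card_eq_fintype_card]
    refine Nat.card_congr (Equiv.subtypeEquivRight fun χ => ?_)
    rw [hd χ]
    norm_cast
  have hle : 4 * Nat.card (IrrCharacter G) ≤ Nat.card G + 3 * (commutator G).index := by
    rw [← hsum, ← hlin, Nat.card_eq_fintype_card, Finset.card_filter, Finset.mul_sum,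
      ← Finset.sum_add_distrib, ← Finset.card_univ, Finset.card_eq_sum_ones, Finset.mul_sum]
    refine Finset.sum_le_sum fun χ _ => ?_
    by_cases h1 : d χ = 1
    · simp [h1]
    · have h2 : 2 ≤ d χ := by have := hd0 χ; omega
      simp only [if_neg h1, mul_one, mul_zero, add_zero]
      nlinarith
  rw [Char.card_irr_eq_card_conjClasses] at hle
  have hmul := (commutator G).card_mul_index
  have hc2 : Nat.card (commutator G) ≤ 2 := by
    have h3 : Nat.card (commutator G) ≤ 3 := by
      by_contra hcon
      have : 4 * (commutator G).index ≤ Nat.card (commutator G) * (commutator G).index :=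
        Nat.mul_le_mul_right _ (by omega)
      have : 0 < Nat.card G := Nat.card_pos
      omega
    obtain ⟨n, hn⟩ := IsPGroup.iff_card.1 (hG.to_subgroup (commutator G))
    rcases n with _ | _ | n
    · rw [hn]; norm_num
    · rw [hn]; norm_num
    · rw [hn] at h3
      have : 4 ≤ 2 ^ (n + 2) := by
        rw [pow_add]
        have : 1 ≤ 2 ^ n := Nat.one_le_two_pow
        omega
      omega
  -- every class lies in a coset of the derived subgroup
  have hcls : Nat.card G + 1 ≤ 2 * Nat.card (ConjClasses G) := by
    haveI := Fintype.ofFinite (ConjClasses G)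
    have hfib : ∀ c : ConjClasses G, (Finset.univ.filter fun g => ConjClasses.mk g = c).card ≤
        if c = ConjClasses.mk (1 : G) then 1 else 2 := by
      intro c
      obtain ⟨x, rfl⟩ := ConjClasses.mk_surjective c
      split_ifs with hc
      · refine Finset.card_le_one.2 fun a ha b hb => ?_
        simp only [Finset.mem_filter, Finset.mem_univ, true_and, hc,
          ConjClasses.mk_eq_mk_iff_isConj, isConj_one_left] at ha hb
        rw [ha, hb]
      · refine le_trans ?_ hc2
        rw [← Fintype.card_coe, Nat.card_eq_fintype_card]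
        refine Fintype.card_le_of_injective (fun g => (⟨g.1 * x⁻¹, ?_⟩ : commutator G))
          fun a b h => Subtype.ext (mul_right_cancel (congrArg Subtype.val h))
        have hg := g.2
        simp only [Finset.mem_filter, Finset.mem_univ, true_and,
          ConjClasses.mk_eq_mk_iff_isConj] at hg
        obtain ⟨c, hc'⟩ := isConj_iff.1 hg.symm
        rw [← hc', ← commutatorElement_def]
        exact Subgroup.commutator_mem_commutator (Subgroup.mem_top c) (Subgroup.mem_top x)
    have h1 : Nat.card G ≤ ∑ c : ConjClasses G, if c = ConjClasses.mk (1 : G) then 1 else 2 := by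
      rw [Nat.card_eq_fintype_card, ← Finset.card_univ]
      rw [Finset.card_eq_sum_card_fiberwise (f := ConjClasses.mk) (t := Finset.univ)
        (fun x _ => Finset.mem_univ _)]
      exact Finset.sum_le_sum fun c _ => hfib c
    have h2 : (∑ c : ConjClasses G, if c = ConjClasses.mk (1 : G) then 1 else 2) + 1 =
        2 * Nat.card (ConjClasses G) := by
      rw [← Finset.add_sum_erase _ _ (Finset.mem_univ (ConjClasses.mk (1 : G))), if_pos rfl,
        Finset.sum_congr rfl (g := fun _ => 2) (fun c hc => if_neg (Finset.ne_of_mem_erase hc)),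
        Finset.sum_const, Finset.card_erase_of_mem (Finset.mem_univ _), Finset.card_univ,
        Nat.card_eq_fintype_card, smul_eq_mul]
      have : 0 < Fintype.card (ConjClasses G) := Fintype.card_pos
      omega
    omega
  omega

/-- An involution of an isolated subgroup is central when the odd core is trivial. -/
theorem exists_central_involution (P : Sylow 2 G) (hO : pPrimeCore 2 G = ⊥)
    (hW : isolatedElts P ≠ ⊥) :
    ∃ w ∈ (P : Subgroup G), orderOf w = 2 ∧ w ∈ Subgroup.center G := by
  haveI : Fact (Nat.Prime 2) := ⟨Nat.prime_two⟩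
  have hp : IsPGroup 2 (isolatedElts P) := P.2.to_le (isolatedElts_le P)
  obtain ⟨n, hn⟩ := IsPGroup.iff_card.1 hp
  have hn0 : n ≠ 0 := fun e => hW (Subgroup.card_eq_one.1 (by rw [hn, e]; rfl))
  obtain ⟨w, hw⟩ := exists_prime_orderOf_dvd_card' 2 (hn ▸ dvd_pow_self 2 hn0)
  have hw2 : orderOf (w : G) = 2 := by rw [Subgroup.orderOf_coe, hw]
  obtain ⟨N, hN, hodd, hc⟩ :=
    Cfsg.Agent.S0215.result P (w : G) hw2 w.2.1 w.2.2
  have hbot : N = ⊥ := by
    refine le_bot_iff.1 (hO ▸ Cores.le_pPrimeCore hN ?_)
    exact Nat.coprime_two_right.2 hodd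
  refine ⟨w, w.2.1, hw2, Subgroup.mem_center_iff.2 fun g => ?_⟩
  have h1 := hc g
  rw [hbot, Subgroup.mem_bot, mul_inv_eq_one, mul_inv_eq_iff_eq_mul] at h1
  exact h1.symm

section quotient

variable (w : G) (hw2 : orderOf w = 2) (hwc : w ∈ Subgroup.center G)
include hw2 hwc

omit [Finite G] hwc in
theorem mem_zpowers_two {x : G} (hx : x ∈ Subgroup.zpowers w) : x = 1 ∨ x = w := by
  obtain ⟨k, rfl⟩ := Subgroup.mem_zpowers_iff.1 hx
  rw [← zpow_mod_orderOf, hw2]
  rcases Int.emod_two_eq_zero_or_one k with h | h
  · left; simp [h]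
  · right; simp [h]

omit [Finite G] hw2 in
theorem normal_zpowers : (Subgroup.zpowers w).Normal :=
  ⟨fun x hx g => by
    have hc : x ∈ Subgroup.center G := Subgroup.zpowers_le.2 hwc hx
    rw [Subgroup.mem_center_iff.1 hc g, mul_inv_cancel_right]; exact hx⟩

/-- The quotient by a central involution has trivial odd core. -/
theorem core_quotient [(Subgroup.zpowers w).Normal] (hO : pPrimeCore 2 G = ⊥) :
    pPrimeCore 2 (G ⧸ Subgroup.zpowers w) = ⊥ := by
  haveI : Fact (Nat.Prime 2) := ⟨Nat.prime_two⟩
  refine Cores.pPrimeCore_eq_bot_iff.2 fun N hN hodd => ?_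
  set M := N.comap (QuotientGroup.mk' (Subgroup.zpowers w)) with hM
  have hwM : Subgroup.zpowers w ≤ M := fun x hx => by
    rw [hM, Subgroup.mem_comap, QuotientGroup.mk'_apply, (QuotientGroup.eq_one_iff x).2 hx]
    exact one_mem _
  have hMn : M.Normal := hN.comap _
  set Z : Subgroup M := (Subgroup.zpowers w).subgroupOf M with hZ
  have hZn : Z.Normal := Subgroup.Normal.subgroupOf inferInstance M
  have hcZ : Nat.card Z = 2 := by
    rw [hZ, Nat.card_congr (Subgroup.subgroupOfEquivOfLe hwM).toEquiv, Nat.card_zpowers, hw2]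
  have hidx : Z.index = Nat.card N := by
    have h1 := Subgroup.card_mul_index Z
    rw [hcZ] at h1
    have h2 : Nat.card M = Nat.card (Subgroup.zpowers w) * Nat.card N := by
      have e1 := M.card_mul_index
      have e2 := N.card_mul_index
      have e3 := (Subgroup.zpowers w).card_mul_index
      rw [hM, Subgroup.index_comap_of_surjective _ (QuotientGroup.mk'_surjective _), ← hM] at e1
      rw [Subgroup.index_eq_card (Subgroup.zpowers w)] at e3
      refine Nat.eq_of_mul_eq_mul_right (Nat.pos_of_ne_zero N.index_ne_zero_of_finite) ?_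
      rw [e1, mul_assoc, e2, e3]
    rw [Nat.card_zpowers, hw2] at h2
    omega
  obtain ⟨C, hC⟩ := Subgroup.exists_right_complement'_of_coprime (N := Z)
    (by rw [hcZ, hidx]; exact hodd.symm)
  have hCn : C.Normal := ⟨fun c hc g => by
    obtain ⟨z, hz, c', hc', rfl⟩ := Subgroup.mem_sup_of_normal_left.1
      (hC.sup_eq_top.symm ▸ Subgroup.mem_top g : g ∈ Z ⊔ C)
    have hzc : ∀ m : M, z * m = m * z := fun m =>
      Subtype.ext ((Subgroup.mem_center_iff.1 (Subgroup.zpowers_le.2 hwc hz) (m : G)).symm)
    rw [show z * c' * c * (z * c')⁻¹ = z * (c' * c * c'⁻¹) * z⁻¹ by group,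
      hzc, mul_inv_cancel_right]
    exact C.mul_mem (C.mul_mem hc' hc) (C.inv_mem hc')⟩
  have hCcard : Nat.card C = Nat.card N := by
    rw [← hidx]
    exact (hC.symm.index_eq_card).symm
  haveI := hMn
  have hCbot : C = ⊥ := by
    have h1 : C ≤ pPrimeCore 2 M := Cores.le_pPrimeCore hCn (hCcard ▸ hodd)
    have h2 : (pPrimeCore 2 M).map M.subtype = ⊥ := by
      rw [Cores.pPrimeCore_map_subtype, hO, bot_inf_eq]
    rw [Subgroup.map_eq_bot_iff, Subgroup.ker_subtype] at h2
    exact le_bot_iff.1 (h1.trans h2)
  rw [hCbot, Subgroup.card_bot] at hCcard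
  exact Subgroup.card_eq_one.1 hCcard.symm

/-- At most two classes lie over a class of the quotient. -/
theorem pClass_cases [(Subgroup.zpowers w).Normal] {x y : G}
    (h : IsConj (x : G ⧸ Subgroup.zpowers w) y) : IsConj x y ∨ IsConj (x * w) y ∨ IsConj (w * x) y := by
  obtain ⟨q, hq⟩ := isConj_iff.1 h
  obtain ⟨g, rfl⟩ := QuotientGroup.mk_surjective q
  rw [← QuotientGroup.mk_inv, ← QuotientGroup.mk_mul, ← QuotientGroup.mk_mul, QuotientGroup.eq] at hq
  rcases mem_zpowers_two w hw2 hq with e | e
  · exact Or.inl (isConj_iff.2 ⟨g, inv_mul_eq_one.1 e⟩)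
  · refine Or.inr (Or.inl (isConj_iff.2 ⟨g, ?_⟩))
    have hy : y = g * x * g⁻¹ * w := by rw [← e]; group
    rw [hy]
    obtain ⟨-, hz⟩ : True ∧ w * g⁻¹ = g⁻¹ * w :=
      ⟨trivial, (Subgroup.mem_center_iff.1 hwc g⁻¹).symm⟩
    calc g * (x * w) * g⁻¹ = g * x * (w * g⁻¹) := by group
      _ = g * x * g⁻¹ * w := by rw [hz]; group

end quotient

end Cfsg.Agent.HalfClasses
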