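/-
Half as many classes of 2-elements as elements of a Sylow 2-subgroup (statement S3896):
reduction to groups whose Sylow 2-subgroup has no isolated element.
-/
import Cfsg.Agent.Lib.HalfClasses.Count

set_option autoImplicit false

namespace Cfsg.Agent.HalfClasses

open Cfsg IsolatedElts

universe u

variable {G : Type u} [Group G]

/-- The shape of the central factor group. -/
def Shape (H : Type u) [Group H] : Prop :=
  Nonempty (H ≃* ↥(alternatingGroup (Fin 4))) ∨ Nonempty (H ≃* Equiv.Perm (Fin 4)) ∨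
    ∃ S : Subgroup H, S.Normal ∧ IsSimpleGroup ↥S ∧ ¬ IsMulCommutative ↥S ∧
      Subgroup.centralizer (S : Set H) = ⊥ ∧
      ∃ (F : Type) (_ : Field F) (_ : Fintype F), 3 < Fintype.card F ∧
        (Fintype.card F % 8 = 3 ∨ Fintype.card F % 8 = 5) ∧
        Nonempty (↥S ≃* Matrix.ProjectiveSpecialLinearGroup (Fin 2) F)

theorem Shape.congr {H K : Type u} [Group H] [Group K] (e : H ≃* K) (h : Shape H) : Shape K := by
  rcases h with ⟨⟨f⟩⟩ | ⟨⟨f⟩⟩ | ⟨S, hSn, hSs, hSc, hC, F, iF, jF, h3, h8, ⟨f⟩⟩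
  · exact Or.inl ⟨e.symm.trans f⟩
  · exact Or.inr (Or.inl ⟨e.symm.trans f⟩)
  · let eS := e.subgroupMap S
    refine Or.inr (Or.inr ⟨S.map e.toMonoidHom, hSn.map _ e.surjective, ?_, fun hcomm => hSc ?_, ?_,
      F, iF, jF, h3, h8, ⟨eS.symm.trans f⟩⟩)
    · haveI := hSs
      haveI : Nontrivial (S.map e.toMonoidHom) := eS.toEquiv.nontrivial_congr.1 inferInstance
      exact IsSimpleGroup.isSimpleGroup_of_surjective eS.toMonoidHom eS.surjective
    · exact ⟨⟨fun a b => eS.injective (by rw [map_mul, map_mul]; exact hcomm.is_comm.comm _ _)⟩⟩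
    · refine eq_bot_iff.2 fun x hx => ?_
      have h1 : e.symm x ∈ Subgroup.centralizer (S : Set H) := fun s hs => e.injective (by
        simp only [map_mul, MulEquiv.apply_symm_apply]
        exact hx _ ⟨s, hs, rfl⟩)
      rw [hC, Subgroup.mem_bot, map_eq_one_iff _ e.symm.injective] at h1
      exact h1

/-- The class of a 2-element. -/
def cls {x : G} (hx : ∃ k : ℕ, orderOf x = 2 ^ k) : PClasses 2 G :=
  ⟨ConjClasses.mk x, fun y hy => by
    obtain ⟨g, rfl⟩ := isConj_iff.1
      (ConjClasses.mk_eq_mk_iff_isConj.1 (ConjClasses.mem_carrier_iff_mk_eq.1 hy)).symm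
    obtain ⟨k, hk⟩ := hx
    exact ⟨k, by rw [← hk]; exact ((MulAut.conj g).orderOf_eq x)⟩⟩

theorem mk_out (c : ConjClasses G) : ConjClasses.mk (ConjClasses.mk_surjective c).choose = c :=
  (ConjClasses.mk_surjective c).choose_spec

variable [Finite G]

/-- A group with trivial odd core and a normal 2-complement is a 2-group. -/
theorem isPGroup_of_noFusion (P : Sylow 2 G) (hO : pPrimeCore 2 G = ⊥)
    (h : NoFusion (P : Subgroup G)) : IsPGroup 2 G := by
  haveI : Fact (Nat.Prime 2) := ⟨Nat.prime_two⟩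
  obtain ⟨N, hN, hc⟩ := (Transfer.hasNormalPComplement_iff_sylow P).1
    ((hasNormalPComplement_iff_noFusion P).2 h)
  have h1 : Nat.card N = (P : Subgroup G).index := hc.index_eq_card.symm
  have hbot : N = ⊥ := le_bot_iff.1 (hO ▸ Cores.le_pPrimeCore hN
    (by rw [h1]; exact (Nat.Prime.coprime_iff_not_dvd Nat.prime_two).2 P.not_dvd_index |>.symm))
  rw [hbot, Subgroup.card_bot] at h1
  exact P.2.of_equiv ((MulEquiv.subgroupCongr (Subgroup.index_eq_one.1 h1.symm)).trans Subgroup.topEquiv)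

omit [Finite G] in
theorem exists_two_pow_of_isPGroup {H : Subgroup G} (h : IsPGroup 2 H) {x : G} (hx : x ∈ H) :
    ∃ k : ℕ, orderOf x = 2 ^ k := by
  haveI : Fact (Nat.Prime 2) := ⟨Nat.prime_two⟩
  obtain ⟨k, hk⟩ := IsPGroup.iff_orderOf.1 h ⟨x, hx⟩
  exact ⟨k, by rw [← hk, Subgroup.orderOf_mk]⟩

/-- The centre is a 2-group when the odd core is trivial. -/
theorem isPGroup_center (hO : pPrimeCore 2 G = ⊥) : IsPGroup 2 (Subgroup.center G) := by
  intro x
  obtain ⟨k, m, hm, he⟩ := Nat.exists_eq_two_pow_mul_odd (orderOf_pos x).ne'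
  refine ⟨k, Subtype.ext ?_⟩
  set y : G := (x : G) ^ 2 ^ k with hy
  have hyc : y ∈ Subgroup.center G := Subgroup.pow_mem _ x.2 _
  have hn : (Subgroup.zpowers y).Normal := ⟨fun a ha g => by
    have hc : a ∈ Subgroup.center G := Subgroup.zpowers_le.2 hyc ha
    rw [Subgroup.mem_center_iff.1 hc g, mul_inv_cancel_right]; exact ha⟩
  have hym : y ^ m = 1 := by
    rw [hy, ← pow_mul, ← he, ← Subgroup.orderOf_coe x, pow_orderOf_eq_one]
  have hle := Cores.le_pPrimeCore (p := 2) hn (by
    rw [Nat.card_zpowers]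
    exact Nat.Coprime.coprime_dvd_left (orderOf_dvd_of_pow_eq_one hym) hm.coprime_two_right)
  rw [hO, le_bot_iff, Subgroup.zpowers_eq_bot] at hle
  simpa [hy] using hle

/-- One step of the induction. -/
theorem reduce_step (P : Sylow 2 G) (hO : pPrimeCore 2 G = ⊥)
    (hk : 2 * Nat.card (PClasses 2 G) = Nat.card (P : Subgroup G)) {w : G} (hwP : w ∈ (P : Subgroup G))
    (hw2 : orderOf w = 2) (hwc : w ∈ Subgroup.center G) [(Subgroup.zpowers w).Normal]
    (P' : Sylow 2 (G ⧸ Subgroup.zpowers w))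
    (hP' : (P' : Subgroup (G ⧸ Subgroup.zpowers w)) =
      (P : Subgroup G).map (QuotientGroup.mk' (Subgroup.zpowers w))) :
    2 * Nat.card (PClasses 2 (G ⧸ Subgroup.zpowers w)) = Nat.card (P' : Subgroup (G ⧸ Subgroup.zpowers w)) ∧
      Nonempty ((G ⧸ Subgroup.center G) ≃*
        ((G ⧸ Subgroup.zpowers w) ⧸ Subgroup.center (G ⧸ Subgroup.zpowers w))) := by
  haveI : Fact (Nat.Prime 2) := ⟨Nat.prime_two⟩
  classical
  set π := QuotientGroup.mk' (Subgroup.zpowers w) with hπ
  have hO' := core_quotient w hw2 hwc hO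
  have hle : Subgroup.zpowers w ≤ (P : Subgroup G) := Subgroup.zpowers_le.2 hwP
  have hPcard : Nat.card (P : Subgroup G) = 2 * Nat.card (P' : Subgroup (G ⧸ Subgroup.zpowers w)) := by
    have := Cores.card_map_mul_ker π (P : Subgroup G) (by rwa [hπ, QuotientGroup.ker_mk'])
    rw [hπ, QuotientGroup.ker_mk', Nat.card_zpowers, hw2] at this
    rw [hP', ← this, mul_comm]
  have hwconj : ∀ a b : G, IsConj a b → IsConj (a * w) (b * w) := by
    intro a b hab
    obtain ⟨g, rfl⟩ := isConj_iff.1 hab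
    refine isConj_iff.2 ⟨g, ?_⟩
    rw [show g * (a * w) * g⁻¹ = g * a * (w * g⁻¹) by group, ← Subgroup.mem_center_iff.1 hwc g⁻¹]
    group
  -- lifts of the classes
  have hlift : ∀ c : PClasses 2 (G ⧸ Subgroup.zpowers w), ∃ x : G, ConjClasses.mk (π x) = c.1 := by
    intro c
    obtain ⟨q, hq⟩ := ConjClasses.mk_surjective c.1
    obtain ⟨x, rfl⟩ := QuotientGroup.mk'_surjective _ q
    exact ⟨x, hq⟩
  choose r hr using hlift
  have hel : ∀ C : PClasses 2 G, ∀ x : G, ConjClasses.mk x = C.1 → ∃ k, orderOf (π x) = 2 ^ k := by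
    intro C x hx
    obtain ⟨k, hk'⟩ := C.2 x (ConjClasses.mem_carrier_iff_mk_eq.2 hx)
    obtain ⟨i, -, hi⟩ := (Nat.dvd_prime_pow Nat.prime_two).1 (hk' ▸ orderOf_map_dvd π x)
    exact ⟨i, hi⟩
  let Φ : PClasses 2 G → PClasses 2 (G ⧸ Subgroup.zpowers w) × Bool := fun C =>
    let c := cls (hel C _ (mk_out C.1))
    (c, decide (C.1 = ConjClasses.mk (r c)))
  have hfib : ∀ C : PClasses 2 G, C.1 = ConjClasses.mk (r (Φ C).1) ∨
      C.1 = ConjClasses.mk (r (Φ C).1 * w) := by
    intro C
    have h1 : IsConj ((r (Φ C).1 : G) : G ⧸ Subgroup.zpowers w)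
        ((ConjClasses.mk_surjective C.1).choose : G) :=
      ConjClasses.mk_eq_mk_iff_isConj.1 (hr (Φ C).1)
    rcases pClass_cases w hw2 hwc h1 with h | h | h
    · left; rw [← mk_out C.1]; exact ConjClasses.mk_eq_mk_iff_isConj.2 h.symm
    · right; rw [← mk_out C.1]; exact ConjClasses.mk_eq_mk_iff_isConj.2 h.symm
    · right
      rw [← mk_out C.1, Subgroup.mem_center_iff.1 hwc (r (Φ C).1)]
      exact ConjClasses.mk_eq_mk_iff_isConj.2 h.symm
  have hinj : Function.Injective Φ := by
    intro C D h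
    have h1 : (Φ C).1 = (Φ D).1 := congrArg Prod.fst h
    have h2 : decide (C.1 = ConjClasses.mk (r (Φ C).1)) = decide (D.1 = ConjClasses.mk (r (Φ D).1)) :=
      congrArg Prod.snd h
    rw [decide_eq_decide] at h2
    apply Subtype.ext
    rcases hfib C with hc | hc
    · rw [hc, h2.1 hc, h1]
    rcases hfib D with hd | hd
    · rw [hd, h2.2 hd, h1]
    rw [hc, hd, h1]
  have hcount : Nat.card (PClasses 2 G) ≤ 2 * Nat.card (PClasses 2 (G ⧸ Subgroup.zpowers w)) := by
    refine (Nat.card_le_card_of_injective Φ hinj).trans_eq ?_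
    rw [Nat.card_prod, mul_comm, Nat.card_eq_fintype_card (α := Bool), Fintype.card_bool]
  have heq : 2 * Nat.card (PClasses 2 (G ⧸ Subgroup.zpowers w)) = Nat.card (P' : Subgroup (G ⧸ Subgroup.zpowers w)) := by
    by_contra hne
    have hG' := isPGroup_of_noFusion P' hO' (noFusion_of_lt_two _ _ P' rfl (by omega))
    have hG : IsPGroup 2 G := by
      intro g
      obtain ⟨k, hk'⟩ := hG' (π g)
      rw [← map_pow, hπ, QuotientGroup.mk'_apply, QuotientGroup.eq_one_iff] at hk'
      refine ⟨k + 1, ?_⟩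
      rw [pow_succ, pow_mul]
      rcases mem_zpowers_two w hw2 hk' with e | e <;> rw [e]
      · rw [one_pow]
      · rw [← hw2, pow_orderOf_eq_one]
    have hPtop : (P : Subgroup G) = ⊤ := (hG.to_subgroup ⊤ |> P.3) le_top |>.symm
    refine two_mul_classes_ne hG ?_
    rw [← Subgroup.card_top (G := G), ← hPtop, ← hk]
    congr 1
    refine (Nat.card_congr (Equiv.subtypeUnivEquiv fun c x hx => ?_)).symm
    exact IsPGroup.iff_orderOf.1 hG x
  refine ⟨heq, ?_⟩
  have hbij : Function.Bijective Φ := by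
    have h1 : Nat.card (PClasses 2 G) = Nat.card (PClasses 2 (G ⧸ Subgroup.zpowers w) × Bool) := by
      rw [Nat.card_prod, Nat.card_eq_fintype_card (α := Bool), Fintype.card_bool]
      omega
    exact (Nat.bijective_iff_injective_and_card Φ).2 ⟨hinj, h1⟩
  -- no 2-element is conjugate to its translate
  have hsplit : ∀ x : G, (∃ k, orderOf (π x) = 2 ^ k) → ¬ IsConj x (x * w) := by
    intro x hx hcon
    set c := cls hx with hc
    obtain ⟨C, hC⟩ := hbij.2 (c, false)
    have hC1 : (Φ C).1 = c := congrArg Prod.fst hC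
    have hC2 : decide (C.1 = ConjClasses.mk (r (Φ C).1)) = false := congrArg Prod.snd hC
    rw [decide_eq_false_iff_not] at hC2
    have hC3 : C.1 = ConjClasses.mk (r c * w) := hC1 ▸ (hfib C).resolve_left hC2
    rw [hC1, hC3] at hC2
    apply hC2
    rw [ConjClasses.mk_eq_mk_iff_isConj]
    have h1 : IsConj ((x : G) : G ⧸ Subgroup.zpowers w) (r c : G) :=
      (ConjClasses.mk_eq_mk_iff_isConj.1 (hr c)).symm
    rcases pClass_cases w hw2 hwc h1 with h | h | h
    · exact ((hwconj _ _ h).symm.trans hcon.symm).trans h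
    · exact ((hwconj _ _ h).symm.trans (hwconj _ _ hcon.symm)).trans h
    · rw [← Subgroup.mem_center_iff.1 hwc x] at h
      exact ((hwconj _ _ h).symm.trans (hwconj _ _ hcon.symm)).trans h
  -- the centre lifts
  have hcen : (Subgroup.center (G ⧸ Subgroup.zpowers w)).comap π = Subgroup.center G := by
    refine le_antisymm (fun x hx => Subgroup.mem_center_iff.2 fun g => ?_) fun x hx => ?_
    · rw [Subgroup.mem_comap] at hx
      have hxk : ∃ k, orderOf (π x) = 2 ^ k := exists_two_pow_of_isPGroup (isPGroup_center hO') hx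
      have h1 : IsConj ((x : G) : G ⧸ Subgroup.zpowers w) (g * x * g⁻¹ : G) :=
        isConj_iff.2 ⟨π g, by simp [hπ]⟩
      have h2 : (g * x * g⁻¹)⁻¹ * x ∈ Subgroup.zpowers w := by
        rw [← QuotientGroup.eq]
        show π (g * x * g⁻¹) = π x
        rw [map_mul, map_mul, map_inv, Subgroup.mem_center_iff.1 hx (π g), mul_inv_cancel_right]
      rcases mem_zpowers_two w hw2 h2 with e | e
      · rw [inv_mul_eq_one, mul_inv_eq_iff_eq_mul] at e
        exact e
      · exfalso
        apply hsplit x hxk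
        refine isConj_iff.2 ⟨g, ?_⟩
        rw [inv_mul_eq_iff_eq_mul] at e
        have hww : w * w = 1 := by
          rw [← pow_two, ← hw2, pow_orderOf_eq_one]
        calc g * x * g⁻¹ = g * x * g⁻¹ * w * w := by rw [mul_assoc _ w w, hww, mul_one]
          _ = x * w := by rw [← e]
    · refine Subgroup.mem_center_iff.2 fun q => ?_
      obtain ⟨g, rfl⟩ := QuotientGroup.mk'_surjective _ q
      rw [← map_mul, ← map_mul, Subgroup.mem_center_iff.1 hx g]
  let φ : G →* (G ⧸ Subgroup.zpowers w) ⧸ Subgroup.center (G ⧸ Subgroup.zpowers w) :=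
    (QuotientGroup.mk' _).comp π
  have hker : φ.ker = Subgroup.center G := by
    rw [← hcen, ← MonoidHom.comap_ker, QuotientGroup.ker_mk']
  exact ⟨(QuotientGroup.quotientMulEquivOfEq hker.symm).trans
    (QuotientGroup.quotientKerEquivOfSurjective φ
      ((QuotientGroup.mk'_surjective _).comp (QuotientGroup.mk'_surjective _)))⟩

omit [Finite G] in
/-- The induction over the order of the group. -/
theorem reduce
    (base : ∀ (H : Type u) [Group H] [Finite H] (P : Sylow 2 H), pPrimeCore 2 H = ⊥ →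
      2 * Nat.card (PClasses 2 H) = Nat.card (P : Subgroup H) → isolatedElts P = ⊥ →
      Shape H) :
    ∀ (n : ℕ) (H : Type u) [Group H] [Finite H] (P : Sylow 2 H), Nat.card H = n →
      pPrimeCore 2 H = ⊥ → 2 * Nat.card (PClasses 2 H) = Nat.card (P : Subgroup H) →
      Shape (H ⧸ Subgroup.center H) := by
  intro n
  induction n using Nat.strong_induction_on with
  | _ n ih =>
    intro H _ _ P hn hO hk
    haveI : Fact (Nat.Prime 2) := ⟨Nat.prime_two⟩
    by_cases hW : isolatedElts P = ⊥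
    · have hZ : Subgroup.center H = ⊥ := by
        refine eq_bot_iff.2 fun z hz => ?_
        rw [← hW]
        have hzP : z ∈ (P : Subgroup H) :=
          (Cores.le_pCore inferInstance (isPGroup_center hO)).trans (Cores.pCore_le_sylow P) hz
        refine ⟨hzP, fun g _ => ?_⟩
        rw [Subgroup.mem_center_iff.1 hz g, mul_inv_cancel_right]
      exact Shape.congr ((QuotientGroup.quotientMulEquivOfEq hZ).trans QuotientGroup.quotientBot).symm
        (base H P hO hk hW)
    · obtain ⟨w, hwP, hw2, hwc⟩ := exists_central_involution P hO hW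
      haveI := normal_zpowers w hwc
      obtain ⟨hk', ⟨e⟩⟩ := reduce_step P hO hk hwP hw2 hwc
        (P.mapSurjective (QuotientGroup.mk'_surjective _)) rfl
      have hlt : Nat.card (H ⧸ Subgroup.zpowers w) < n := by
        have h1 := (Subgroup.zpowers w).card_mul_index
        rw [Nat.card_zpowers, hw2, Subgroup.index_eq_card, hn] at h1
        have h2 : 0 < Nat.card (H ⧸ Subgroup.zpowers w) := Nat.card_pos
        omega
      exact Shape.congr e.symm (ih _ hlt _ _ rfl (core_quotient w hw2 hwc hO) hk')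

end Cfsg.Agent.HalfClasses
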