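/-
Half as many classes of 2-elements as elements of a Sylow 2-subgroup, no isolated elements:
every conjugacy class meets the Sylow subgroup in two elements with one exception, and this
forces a Klein four group with all its involutions fused (statement S3896).
-/
import Cfsg.Agent.Lib.HalfClasses.Induct
import Cfsg.Agent.Lib.Transfer.Focal

set_option autoImplicit false

namespace Cfsg.Agent.HalfClasses

open Cfsg IsolatedElts
open scoped commutatorElement

universe u

variable {G : Type u} [Group G]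

/-- The configuration: a normal subgroup of index at most two with a fused Klein four Sylow
2-subgroup, which is self-centralising among the 2-elements. -/
structure KleinData (V K : Subgroup G) : Prop where
  normal : K.Normal
  le : V ≤ K
  klein : IsKleinFour V
  sylow : ¬ 2 ∣ V.relIndex K
  fused : ∀ x ∈ V, x ≠ 1 → ∀ y ∈ V, y ≠ 1 → ∃ k ∈ K, k * x * k⁻¹ = y
  index : K.index ≤ 2
  selfcent : ∀ t : G, (∃ j : ℕ, orderOf t = 2 ^ j) → (∀ v ∈ V, t * v = v * t) → t ∈ V

/-- The conjugates of `x` in `P`. -/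
def fib (P : Subgroup G) (x : G) : Set G := {y | y ∈ P ∧ IsConj x y}

theorem isKleinFour_of_sq {V : Subgroup G} [Finite G] (h4 : Nat.card V = 4)
    (hsq : ∀ v ∈ V, v * v = 1) : IsKleinFour V := by
  refine ⟨h4, ?_⟩
  haveI : Nontrivial V := Finite.one_lt_card_iff_nontrivial.1 (by omega)
  refine (Monoid.exponent_eq_prime_iff Nat.prime_two).2 fun g hg => ?_
  exact orderOf_eq_prime (by rw [pow_two]; exact Subtype.ext (hsq g g.2)) hg

variable [Finite G] (P : Sylow 2 G)

/-- The sizes of the fibres. -/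
theorem fib_sizes (hk : 2 * Nat.card (PClasses 2 G) = Nat.card (P : Subgroup G))
    (hW : isolatedElts P = ⊥) :
    (∀ x ∈ (P : Subgroup G), x ≠ 1 →
      2 ≤ (fib (P : Subgroup G) x).ncard ∧ (fib (P : Subgroup G) x).ncard ≤ 3) ∧
    (∀ x ∈ (P : Subgroup G), ∀ y ∈ (P : Subgroup G), x ≠ 1 → y ≠ 1 →
      3 ≤ (fib (P : Subgroup G) x).ncard → 3 ≤ (fib (P : Subgroup G) y).ncard → IsConj x y) ∧
    ∃ x ∈ (P : Subgroup G), x ≠ 1 ∧ (fib (P : Subgroup G) x).ncard = 3 := by
  classical
  haveI : Fact (Nat.Prime 2) := ⟨Nat.prime_two⟩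
  haveI := Fintype.ofFinite G
  haveI := Fintype.ofFinite (PClasses 2 G)
  set f : ↥(P : Subgroup G) → PClasses 2 G :=
    fun y => cls (exists_two_pow_of_isPGroup P.2 y.2) with hf
  have hfeq : ∀ a b : (P : Subgroup G), f a = f b ↔ IsConj (a : G) b := fun a b => by
    simp only [hf, cls, Subtype.mk.injEq, ConjClasses.mk_eq_mk_iff_isConj]
  have hncard : ∀ a : (P : Subgroup G),
      (fib (P : Subgroup G) (a : G)).ncard = (Finset.univ.filter fun y => f y = f a).card := by
    intro a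
    rw [← Finset.card_map ⟨Subtype.val, Subtype.val_injective⟩, ← Set.ncard_coe_finset]
    congr 1
    ext y
    simp only [fib, Finset.coe_map, Function.Embedding.coeFn_mk, Finset.coe_filter,
      Finset.mem_univ, true_and, Set.mem_image, Set.mem_setOf_eq]
    constructor
    · rintro ⟨hy, hc⟩
      exact ⟨⟨y, hy⟩, (hfeq _ _).2 hc.symm, rfl⟩
    · rintro ⟨b, hb, rfl⟩
      exact ⟨b.2, ((hfeq _ _).1 hb).symm⟩
  set c1 : PClasses 2 G := f 1 with hc1
  have hone : (Finset.univ.filter fun y => f y = c1).card = 1 := by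
    refine le_antisymm (Finset.card_le_one.2 fun a ha b hb => ?_) (Finset.card_pos.2 ⟨1, by simp [hc1]⟩)
    simp only [Finset.mem_filter, Finset.mem_univ, true_and, hc1, hfeq, OneMemClass.coe_one,
      isConj_one_left] at ha hb
    exact Subtype.ext (ha.trans hb.symm)
  have hsurj : ∀ c, ∃ a, f a = c := fun c => by
    obtain ⟨x, hx, hxc⟩ := exists_rep P c
    exact ⟨⟨x, hx⟩, Subtype.ext hxc⟩
  have htwo : ∀ a : (P : Subgroup G), (a : G) ≠ 1 → 2 ≤ (fib (P : Subgroup G) (a : G)).ncard := by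
    intro a ha
    have hn : ¬ IsIsolatedElt (P : Subgroup G) (a : G) := fun hi => ha (by
      have h1 : (a : G) ∈ isolatedElts P := hi
      rwa [hW, Subgroup.mem_bot] at h1)
    simp only [IsIsolatedElt, not_and, not_forall] at hn
    obtain ⟨g, hg, hne⟩ := hn a.2
    exact (Set.one_lt_ncard (Set.toFinite _)).2
      ⟨(a : G), ⟨a.2, IsConj.refl _⟩, _, ⟨hg, isConj_iff.2 ⟨g, rfl⟩⟩, fun h => hne h.symm⟩
  set n : PClasses 2 G → ℕ := fun c => (Finset.univ.filter fun y => f y = c).card with hn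
  have hne1 : ∀ a : (P : Subgroup G), (a : G) ≠ 1 → f a ∈ Finset.univ.erase c1 := fun a ha => by
    refine Finset.mem_erase.2 ⟨fun h => ha ?_, Finset.mem_univ _⟩
    rw [hc1, hfeq, OneMemClass.coe_one, isConj_one_left] at h
    exact h
  have hge : ∀ c ∈ Finset.univ.erase c1, 2 ≤ n c := fun c hc => by
    obtain ⟨a, rfl⟩ := hsurj c
    show 2 ≤ (Finset.univ.filter fun y => f y = f a).card
    rw [← hncard]
    refine htwo a fun h => Finset.ne_of_mem_erase hc ?_
    rw [hc1, hfeq, h, OneMemClass.coe_one]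
  have hexc : ∑ c ∈ Finset.univ.erase c1, (n c - 2) = 1 := by
    have h1 : Nat.card (P : Subgroup G) = ∑ c, n c := by
      rw [Nat.card_eq_fintype_card, ← Finset.card_univ]
      exact Finset.card_eq_sum_card_fiberwise fun x _ => Finset.mem_univ _
    rw [← Finset.add_sum_erase _ _ (Finset.mem_univ c1),
      Finset.sum_congr rfl (g := fun c => (n c - 2) + 2) (fun c hc => (Nat.sub_add_cancel (hge c hc)).symm),
      Finset.sum_add_distrib, Finset.sum_const, Finset.card_erase_of_mem (Finset.mem_univ _),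
      Finset.card_univ, smul_eq_mul, show n c1 = 1 from hone] at h1
    rw [← hk, Nat.card_eq_fintype_card] at h1
    have h0 : 0 < Fintype.card (PClasses 2 G) := Fintype.card_pos_iff.2 ⟨c1⟩
    omega
  refine ⟨fun x hx hx1 => ⟨htwo ⟨x, hx⟩ hx1, ?_⟩, fun x hx y hy hx1 hy1 h3x h3y => ?_, ?_⟩
  · rw [hncard ⟨x, hx⟩]
    have h1 := Finset.single_le_sum (f := fun c => n c - 2) (fun c _ => Nat.zero_le _)
      (hne1 ⟨x, hx⟩ hx1)
    rw [hexc] at h1
    simp only [hn] at h1
    omega
  · by_contra hcon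
    have hne : f ⟨x, hx⟩ ≠ f ⟨y, hy⟩ := fun h => hcon ((hfeq _ _).1 h)
    have h1 := Finset.sum_le_sum_of_subset (f := fun c => n c - 2)
      (s := {f ⟨x, hx⟩, f ⟨y, hy⟩}) (t := Finset.univ.erase c1)
      (Finset.insert_subset_iff.2 ⟨hne1 ⟨x, hx⟩ hx1, Finset.singleton_subset_iff.2 (hne1 ⟨y, hy⟩ hy1)⟩)
    rw [hexc, Finset.sum_pair hne] at h1
    rw [hncard ⟨x, hx⟩] at h3x
    rw [hncard ⟨y, hy⟩] at h3y
    simp only [hn] at h1
    omega
  · obtain ⟨c, hc, hc'⟩ := Finset.exists_ne_zero_of_sum_ne_zero (hexc.trans_ne one_ne_zero)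
    have h1 := Finset.single_le_sum (f := fun c => n c - 2) (fun c _ => Nat.zero_le _) hc
    rw [hexc] at h1
    obtain ⟨a, rfl⟩ := hsurj c
    refine ⟨a, a.2, fun h => Finset.ne_of_mem_erase hc ?_, ?_⟩
    · rw [hc1, hfeq, h, OneMemClass.coe_one]
    · rw [hncard a]
      simp only [hn] at h1 hc'
      omega

/-- An element normalising `P` cannot exchange a central element of `P` with another element. -/
theorem no_swap {n z : G} (hn : n ∈ Subgroup.normalizer ((P : Subgroup G) : Set G))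
    (hzc : ∀ a ∈ (P : Subgroup G), a * z = z * a)
    (h2 : n * (n * z * n⁻¹) * n⁻¹ = z) : n * z * n⁻¹ = z := by
  haveI : Fact (Nat.Prime 2) := ⟨Nat.prime_two⟩
  obtain ⟨k, m, hm, he⟩ := Nat.exists_eq_two_pow_mul_odd (orderOf_pos n).ne'
  set N := Subgroup.normalizer ((P : Subgroup G) : Set G) with hN
  have hnm : n ^ m ∈ N := Subgroup.pow_mem _ hn m
  have hpow : (n ^ m) ^ 2 ^ k = 1 := by rw [← pow_mul, mul_comm, ← he, pow_orderOf_eq_one]
  have hmem : n ^ m ∈ (P : Subgroup G) := by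
    have hR : IsPGroup 2 (Subgroup.zpowers (n ^ m)) :=
      IsPGroup.iff_orderOf.2 fun ⟨y, hy⟩ => by
        obtain ⟨i, -, hi⟩ := (Nat.dvd_prime_pow Nat.prime_two).1
          ((orderOf_dvd_of_mem_zpowers hy).trans (orderOf_dvd_of_pow_eq_one hpow))
        exact ⟨i, by rw [Subgroup.orderOf_mk]; exact hi⟩
    have hsup := IsPGroup.to_sup_of_normal_left' P.2 hR
      (Subgroup.zpowers_le.2 (by simpa [hN] using hnm))
    have h1 := P.3 hsup le_sup_left
    exact h1 ▸ le_sup_right (b := Subgroup.zpowers (n ^ m)) (Subgroup.mem_zpowers (n ^ m))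
  have hc : Commute (n * n) z := by
    show n * n * z = z * (n * n)
    calc n * n * z = (n * (n * z * n⁻¹) * n⁻¹) * (n * n) := by group
      _ = z * (n * n) := by rw [h2]
  obtain ⟨j, hj⟩ := hm
  have hm2 : n ^ m = n * (n * n) ^ j := by rw [hj, ← pow_two, ← pow_mul, ← pow_succ']
  have h3 : n * z * n⁻¹ = n ^ m * z * (n ^ m)⁻¹ := by
    rw [hm2, mul_assoc n ((n * n) ^ j) z, (hc.pow_left j).eq]
    group
  rw [h3, hzc _ hmem, mul_inv_cancel_right]

/-- Two central elements of `P` which are conjugate are conjugate in the normaliser. -/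
theorem central_fused {z y : G} (hzc : ∀ a ∈ (P : Subgroup G), a * z = z * a)
    (hyc : ∀ a ∈ (P : Subgroup G), a * y = y * a) (h : IsConj z y) :
    ∃ n ∈ Subgroup.normalizer ((P : Subgroup G) : Set G), n * z * n⁻¹ = y := by
  haveI : Fact (Nat.Prime 2) := ⟨Nat.prime_two⟩
  obtain ⟨g, hg⟩ := isConj_iff.1 h
  obtain ⟨n, hn, he⟩ := Transfer.exists_normalizer_conj_image P (X := {z}) (Y := {y})
    (fun a ha => by rw [Set.image_singleton, hzc a ha, mul_inv_cancel_right])
    (fun a ha => by rw [Set.image_singleton, hyc a ha, mul_inv_cancel_right]) (g := g)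
    (by rw [Set.image_singleton, hg])
  rw [Set.image_singleton, Set.singleton_eq_singleton_iff] at he
  exact ⟨n, hn, he⟩

/-- A nontrivial central element of `P` has three conjugates in `P`. -/
theorem fib_central
    (hsz : ∀ x ∈ (P : Subgroup G), x ≠ 1 →
      2 ≤ (fib (P : Subgroup G) x).ncard ∧ (fib (P : Subgroup G) x).ncard ≤ 3)
    {z : G} (hz : z ∈ (P : Subgroup G)) (hz1 : z ≠ 1)
    (hzc : ∀ a ∈ (P : Subgroup G), a * z = z * a) :
    (fib (P : Subgroup G) z).ncard = 3 := by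
  obtain ⟨h2, h3⟩ := hsz z hz hz1
  by_contra hne
  have hc : (fib (P : Subgroup G) z).ncard = 2 := by omega
  obtain ⟨u, v, huv, he⟩ := Set.ncard_eq_two.1 hc
  have hzm : z ∈ fib (P : Subgroup G) z := ⟨hz, IsConj.refl _⟩
  obtain ⟨y, hyz, hyP, hzy, hall⟩ : ∃ y, y ≠ z ∧ y ∈ (P : Subgroup G) ∧ IsConj z y ∧
      ∀ t ∈ (P : Subgroup G), IsConj z t → t = z ∨ t = y := by
    have hall : ∀ t ∈ (P : Subgroup G), IsConj z t → t = u ∨ t = v := fun t ht htc => by
      have : t ∈ fib (P : Subgroup G) z := ⟨ht, htc⟩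
      rw [he] at this
      exact this
    have hu : u ∈ fib (P : Subgroup G) z := by rw [he]; exact Or.inl rfl
    have hv : v ∈ fib (P : Subgroup G) z := by rw [he]; exact Or.inr rfl
    rcases hall z hz (IsConj.refl _) with e | e
    · exact ⟨v, fun h => huv (h ▸ e).symm, hv.1, hv.2, fun t ht htc => e ▸ hall t ht htc⟩
    · exact ⟨u, fun h => huv (h.trans e), hu.1, hu.2, fun t ht htc => e ▸ (hall t ht htc).symm⟩
  have hyc : ∀ a ∈ (P : Subgroup G), a * y = y * a := by
    intro a ha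
    rcases hall (a * y * a⁻¹) (mul_mem (mul_mem ha hyP) (inv_mem ha))
      (hzy.trans (isConj_iff.2 ⟨a, rfl⟩)) with e | e
    · exfalso
      apply hyz
      calc y = a⁻¹ * (a * y * a⁻¹) * a := by group
        _ = a⁻¹ * (z * a) := by rw [e, mul_assoc]
        _ = z := by rw [← hzc a ha, inv_mul_cancel_left]
    · exact mul_inv_eq_iff_eq_mul.1 e
  obtain ⟨n, hn, hny⟩ := central_fused P hzc hyc hzy
  have hne' : n * z * n⁻¹ ≠ z := hny ▸ hyz
  apply hne'
  refine no_swap P hn hzc ?_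
  rw [hny]
  rcases hall (n * y * n⁻¹) ((Subgroup.mem_normalizer_iff.1 hn y).1 hyP)
    (hzy.trans (isConj_iff.2 ⟨n, rfl⟩)) with e | e
  · exact e
  · exfalso
    apply hyz
    have h1 : n * y * n⁻¹ = n * z * n⁻¹ := e.trans hny.symm
    exact mul_left_cancel (mul_right_cancel h1)

/-- The Sylow subgroup is abelian: it is a Klein four group, completely fused. -/
theorem data_of_comm
    (hsz : ∀ x ∈ (P : Subgroup G), x ≠ 1 →
      2 ≤ (fib (P : Subgroup G) x).ncard ∧ (fib (P : Subgroup G) x).ncard ≤ 3)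
    (huniq : ∀ x ∈ (P : Subgroup G), ∀ y ∈ (P : Subgroup G), x ≠ 1 → y ≠ 1 →
      3 ≤ (fib (P : Subgroup G) x).ncard → 3 ≤ (fib (P : Subgroup G) y).ncard → IsConj x y)
    (hex : ∃ x ∈ (P : Subgroup G), x ≠ 1)
    (hab : ∀ a ∈ (P : Subgroup G), ∀ b ∈ (P : Subgroup G), a * b = b * a) :
    ∃ V K : Subgroup G, KleinData V K := by
  haveI : Fact (Nat.Prime 2) := ⟨Nat.prime_two⟩
  obtain ⟨x, hx, hx1⟩ := hex
  have h3 : ∀ z ∈ (P : Subgroup G), z ≠ 1 → (fib (P : Subgroup G) z).ncard = 3 :=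
    fun z hz hz1 => fib_central P hsz hz hz1 fun a ha => hab a ha z hz
  have hconj : ∀ y ∈ (P : Subgroup G), y ≠ 1 → IsConj x y := fun y hy hy1 =>
    huniq x hx y hy hx1 hy1 (h3 x hx hx1).ge (h3 y hy hy1).ge
  have hfib : fib (P : Subgroup G) x = ((P : Subgroup G) : Set G) \ {1} := by
    ext y
    refine ⟨fun ⟨hy, hc⟩ => ⟨hy, fun h => hx1 ?_⟩, fun ⟨hy, hy1⟩ => ⟨hy, hconj y hy hy1⟩⟩
    rw [Set.mem_singleton_iff] at h
    rw [h, isConj_one_left] at hc
    exact hc
  have h4 : Nat.card (P : Subgroup G) = 4 := by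
    have h := h3 x hx hx1
    rw [hfib, Set.ncard_sdiff_singleton_of_mem (one_mem _), ← Nat.card_coe_set_eq] at h
    change Nat.card (P : Subgroup G) - 1 = 3 at h
    omega
  obtain ⟨t, ht⟩ := exists_prime_orderOf_dvd_card' (G := (P : Subgroup G)) 2 (by omega)
  rw [← Subgroup.orderOf_coe] at ht
  have ht1 : (t : G) ≠ 1 := fun h => by rw [h, orderOf_one] at ht; omega
  have hsq : ∀ v ∈ (P : Subgroup G), v * v = 1 := by
    intro v hv
    by_cases hv1 : v = 1
    · rw [hv1, mul_one]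
    obtain ⟨g, hg⟩ := isConj_iff.1 ((hconj t t.2 ht1).symm.trans (hconj v hv hv1))
    have ht2 : (t : G) * t = 1 := by
      have := pow_orderOf_eq_one (t : G)
      rwa [ht, pow_two] at this
    rw [← hg, show g * t * g⁻¹ * (g * t * g⁻¹) = g * (t * t) * g⁻¹ by group, ht2, mul_one,
      mul_inv_cancel]
  refine ⟨P, ⊤, ⟨inferInstance, le_top, isKleinFour_of_sq h4 hsq, ?_, fun a ha ha1 b hb hb1 => ?_,
    by rw [Subgroup.index_top]; omega, fun s hs hc => ?_⟩⟩
  · rw [Subgroup.relIndex_top_right]; exact P.not_dvd_index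
  · obtain ⟨g, hg⟩ := isConj_iff.1 ((hconj a ha ha1).symm.trans (hconj b hb hb1))
    exact ⟨g, Subgroup.mem_top g, hg⟩
  · obtain ⟨j, hj⟩ := hs
    have hR : IsPGroup 2 (Subgroup.zpowers s) :=
      IsPGroup.of_card (n := j) (by rw [Nat.card_zpowers, hj])
    have hsup := IsPGroup.to_sup_of_normal_left' P.2 hR (Subgroup.zpowers_le.2 (by
      rw [Subgroup.mem_normalizer_iff]
      intro v
      constructor
      · intro hv; rwa [hc v hv, mul_inv_cancel_right]
      · intro hv
        have h := hc _ hv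
        have e : v = s * v * s⁻¹ := by
          calc v = s⁻¹ * (s * v * s⁻¹ * s) := by group
            _ = s * v * s⁻¹ := by rw [← h, inv_mul_cancel_left]
        rwa [e]))
    exact P.3 hsup le_sup_left ▸ le_sup_right (a := (P : Subgroup G)) (Subgroup.mem_zpowers s)

/-- The Sylow subgroup is nonabelian: it is dihedral of order 8 and one class of involutions
outside the centre fuses with the centre. -/
theorem data_of_not_comm (hO : pPrimeCore 2 G = ⊥)
    (hsz : ∀ x ∈ (P : Subgroup G), x ≠ 1 →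
      2 ≤ (fib (P : Subgroup G) x).ncard ∧ (fib (P : Subgroup G) x).ncard ≤ 3)
    (huniq : ∀ x ∈ (P : Subgroup G), ∀ y ∈ (P : Subgroup G), x ≠ 1 → y ≠ 1 →
      3 ≤ (fib (P : Subgroup G) x).ncard → 3 ≤ (fib (P : Subgroup G) y).ncard → IsConj x y)
    (hab : ¬ ∀ a ∈ (P : Subgroup G), ∀ b ∈ (P : Subgroup G), a * b = b * a) :
    ∃ V K : Subgroup G, KleinData V K := by
  haveI : Fact (Nat.Prime 2) := ⟨Nat.prime_two⟩
  classical
  set P0 : Subgroup G := (P : Subgroup G) with hP0
  let IsC : G → Prop := fun z => ∀ a ∈ P0, a * z = z * a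
  have hCone : IsC 1 := fun a _ => by rw [mul_one, one_mul]
  have hCmul : ∀ {a b}, IsC a → IsC b → IsC (a * b) := fun ha hb e he => by
    rw [← mul_assoc, ha e he, mul_assoc, hb e he, mul_assoc]
  have hCinv : ∀ {a}, IsC a → IsC a⁻¹ := fun {a} ha e he =>
    (Commute.inv_right (ha e he : Commute e a)).eq
  push Not at hab
  obtain ⟨a0, ha0, b0, hb0, hab0⟩ := hab
  have hb0C : ¬ IsC b0 := fun h => hab0 (h a0 ha0)
  have hmove : ∀ {y}, ¬ IsC y → ∃ a ∈ P0, a * y * a⁻¹ ≠ y := fun {y} hy => by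
    simp only [IsC, not_forall] at hy
    obtain ⟨a, ha, hne⟩ := hy
    exact ⟨a, ha, fun h => hne (mul_inv_eq_iff_eq_mul.1 h)⟩
  -- a central involution
  haveI hntP : Nontrivial P0 := ⟨⟨b0, hb0⟩, 1, fun h => hb0C (by
    rw [show b0 = 1 from congrArg Subtype.val h]; exact hCone)⟩
  haveI := P.2.center_nontrivial
  obtain ⟨⟨c', hc'Z⟩, hc'1⟩ := exists_ne (1 : Subgroup.center P0)
  set c : G := (c' : G) with hc
  have hcP : c ∈ P0 := c'.2
  have hc1 : c ≠ 1 := fun h => hc'1 (Subtype.ext (Subtype.ext h))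
  have hcC : IsC c := fun a ha => congrArg Subtype.val (Subgroup.mem_center_iff.1 hc'Z ⟨a, ha⟩)
  have hcfib : (fib P0 c).ncard = 3 := fib_central P hsz hcP hc1 hcC
  -- central elements lie in the fibre of c
  have hCfib : ∀ z ∈ P0, z ≠ 1 → IsC z → IsConj c z := fun z hz hz1 hzc =>
    huniq c hcP z hz hc1 hz1 hcfib.ge (fib_central P hsz hz hz1 hzc).ge
  -- noncentral elements off that fibre have exactly two conjugates
  have hoff : ∀ y ∈ P0, ¬ IsC y → ¬ IsConj c y → ∀ t ∈ P0, IsConj y t → ∀ a ∈ P0,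
      a * y * a⁻¹ ≠ y → t = y ∨ t = a * y * a⁻¹ := by
    intro y hy hyC hcy t ht hyt a ha hay
    have hy1 : y ≠ 1 := fun h => hyC (h ▸ hCone)
    by_contra hcon
    push Not at hcon
    have h3 : 3 ≤ (fib P0 y).ncard := by
      have hsub : ({y, a * y * a⁻¹, t} : Set G) ⊆ fib P0 y := by
        rintro s (rfl | rfl | rfl)
        · exact ⟨hy, IsConj.refl _⟩
        · exact ⟨mul_mem (mul_mem ha hy) (inv_mem ha), isConj_iff.2 ⟨a, rfl⟩⟩
        · exact ⟨ht, hyt⟩
      refine le_trans ?_ (Set.ncard_le_ncard hsub (Set.toFinite _))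
      rw [Set.ncard_eq_three.2 ⟨_, _, _, hay.symm, hcon.1.symm, hcon.2.symm, rfl⟩]
    exact hcy (huniq c hcP y hy hc1 hy1 hcfib.ge h3)
  -- the only nontrivial central element is c
  have hZc : ∀ z ∈ P0, IsC z → z = 1 ∨ z = c := by
    intro z hz hzC
    by_contra hcon
    push Not at hcon
    -- then every element of the fibre of c is central
    have hfull : ∀ y ∈ P0, IsConj c y → IsC y := by
      intro y hy hcy
      by_contra hyC
      obtain ⟨a, ha, hay⟩ := hmove hyC
      set y' := a * y * a⁻¹ with hy'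
      have hy'C : ¬ IsC y' := fun h => hay (by
        calc y' = a⁻¹ * y' * a := by rw [mul_assoc, ← h a ha, inv_mul_cancel_left]
          _ = y := by rw [hy']; group)
      have hsub : ({c, z, y, y'} : Set G) ⊆ fib P0 c := by
        rintro s (rfl | rfl | rfl | rfl)
        · exact ⟨hcP, IsConj.refl _⟩
        · exact ⟨hz, hCfib _ hz hcon.1 hzC⟩
        · exact ⟨hy, hcy⟩
        · exact ⟨mul_mem (mul_mem ha hy) (inv_mem ha), hcy.trans (isConj_iff.2 ⟨a, rfl⟩)⟩
      have h4 : ({c, z, y, y'} : Set G).ncard = 4 := by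
        rw [Set.ncard_insert_of_notMem (fun h => ?_) (Set.toFinite _), Set.ncard_eq_three.2
          ⟨z, y, y', fun e => hyC (e ▸ hzC), fun e => hy'C (e ▸ hzC), hay.symm, rfl⟩]
        rcases h with e | e | e
        · exact hcon.2 e.symm
        · exact hyC (e ▸ hcC)
        · exact hy'C (e ▸ hcC)
      have := Set.ncard_le_ncard hsub (Set.toFinite _)
      omega
    obtain ⟨n, hn, hnz⟩ := central_fused P hcC hzC (hCfib z hz hcon.1 hzC)
    have hne : n * c * n⁻¹ ≠ c := hnz ▸ hcon.2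
    apply hne
    refine no_swap P hn hcC ?_
    -- the square of n fixes every noncentral element
    have hfix : ∀ y ∈ P0, ¬ IsC y → n * (n * y * n⁻¹) * n⁻¹ = y := by
      intro y hy hyC
      have hny : n * y * n⁻¹ ∈ P0 := (Subgroup.mem_normalizer_iff.1 hn y).1 hy
      have hcy : ¬ IsConj c y := fun h => hyC (hfull y hy h)
      obtain ⟨a, ha, hay⟩ := hmove hyC
      rcases hoff y hy hyC hcy _ hny (isConj_iff.2 ⟨n, rfl⟩) a ha hay with e | e
      · rw [e, e]
      · rcases hoff y hy hyC hcy (n * (n * y * n⁻¹) * n⁻¹)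
          ((Subgroup.mem_normalizer_iff.1 hn _).1 hny)
          (isConj_iff.2 ⟨n * n, by group⟩) a ha hay with e2 | e2
        · exact e2
        · exfalso
          apply hay
          have h1 : n * (n * y * n⁻¹) * n⁻¹ = n * y * n⁻¹ := e2.trans e.symm
          exact e.symm.trans (mul_left_cancel (mul_right_cancel h1))
    have h1 : ¬ IsC (c * b0) := fun h => hb0C (by simpa using hCmul (hCinv hcC) h)
    have e1 := hfix (c * b0) (mul_mem hcP hb0) h1
    have e2 := hfix b0 hb0 hb0C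
    rw [show n * (n * (c * b0) * n⁻¹) * n⁻¹ =
      (n * (n * c * n⁻¹) * n⁻¹) * (n * (n * b0 * n⁻¹) * n⁻¹) by group, e2] at e1
    exact mul_right_cancel e1
  -- noncentral classes of P have two elements
  have hclass : ∀ y ∈ P0, ¬ IsC y → ∀ a ∈ P0, a * y * a⁻¹ ≠ y → ∀ b ∈ P0,
      b * y * b⁻¹ = y ∨ b * y * b⁻¹ = a * y * a⁻¹ := by
    intro y hy hyC a ha hay b hb
    by_cases hcy : IsConj c y
    · by_contra hcon
      push Not at hcon
      have hnc : ∀ d ∈ P0, d * y * d⁻¹ ≠ c := fun d hd h => hyC (by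
        have : y = c := by
          calc y = d⁻¹ * (d * y * d⁻¹) * d := by group
            _ = c := by rw [h, mul_assoc, ← hcC d hd, inv_mul_cancel_left]
        rw [this]; exact hcC)
      have hsub : ({c, y, a * y * a⁻¹, b * y * b⁻¹} : Set G) ⊆ fib P0 c := by
        rintro s (rfl | rfl | rfl | rfl)
        · exact ⟨hcP, IsConj.refl _⟩
        · exact ⟨hy, hcy⟩
        · exact ⟨mul_mem (mul_mem ha hy) (inv_mem ha), hcy.trans (isConj_iff.2 ⟨a, rfl⟩)⟩
        · exact ⟨mul_mem (mul_mem hb hy) (inv_mem hb), hcy.trans (isConj_iff.2 ⟨b, rfl⟩)⟩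
      have h4 : ({c, y, a * y * a⁻¹, b * y * b⁻¹} : Set G).ncard = 4 := by
        rw [Set.ncard_insert_of_notMem (fun h => ?_) (Set.toFinite _), Set.ncard_eq_three.2
          ⟨y, _, _, hay.symm, hcon.1.symm, hcon.2.symm, rfl⟩]
        rcases h with e | e | e
        · exact hyC (e ▸ hcC)
        · exact hnc a ha e.symm
        · exact hnc b hb e.symm
      have := Set.ncard_le_ncard hsub (Set.toFinite _)
      omega
    · exact hoff y hy hyC hcy _ (mul_mem (mul_mem hb hy) (inv_mem hb))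
        (isConj_iff.2 ⟨b, rfl⟩) a ha hay
  -- squares are central, hence so are commutators
  have hsqC : ∀ s ∈ P0, IsC (s * s) := by
    intro s hs y hy
    by_cases hyC : IsC y
    · exact (hyC _ (mul_mem hs hs)).symm
    obtain ⟨a, ha, hay⟩ := hmove hyC
    have hkey : s * s * y * (s * s)⁻¹ = y := by
      rcases hclass y hy hyC a ha hay (s * s) (mul_mem hs hs) with e | e
      · exact e
      · exfalso
        rcases hclass y hy hyC a ha hay s hs with e1 | e1
        · apply hay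
          rw [← e, show s * s * y * (s * s)⁻¹ = s * (s * y * s⁻¹) * s⁻¹ by group, e1, e1]
        · apply hay
          have h1 : s * (s * y * s⁻¹) * s⁻¹ = s * y * s⁻¹ := by
            rw [show s * (s * y * s⁻¹) * s⁻¹ = s * s * y * (s * s)⁻¹ by group, e, e1]
          exact e1.symm.trans (mul_left_cancel (mul_right_cancel h1))
    exact (mul_inv_eq_iff_eq_mul.1 hkey).symm
  have hcomm : ∀ a ∈ P0, ∀ b ∈ P0, a * b * a⁻¹ = b ∨ a * b * a⁻¹ = c * b := by
    intro a ha b hb
    have hm : a⁻¹ * b ∈ P0 := mul_mem (inv_mem ha) hb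
    have hC : IsC (a * b * a⁻¹ * b⁻¹) := by
      rw [show a * b * a⁻¹ * b⁻¹ = (a * a) * ((a⁻¹ * b) * (a⁻¹ * b)) * (b⁻¹ * b⁻¹) by group]
      exact hCmul (hCmul (hsqC a ha) (hsqC _ hm)) (hsqC _ (inv_mem hb))
    rcases hZc _ (mul_mem (mul_mem (mul_mem ha hb) (inv_mem ha)) (inv_mem hb)) hC with e | e
    · left; exact mul_inv_eq_one.1 e
    · right; exact mul_inv_eq_iff_eq_mul.1 e
  have hc2 : c * c = 1 := by
    rcases hZc (c * c) (mul_mem hcP hcP) (hCmul hcC hcC) with e | e
    · exact e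
    · exact absurd (mul_eq_left.1 e) hc1
  have hcinv : c⁻¹ = c := inv_eq_of_mul_eq_one_right hc2
  -- the other two members of the fibre of c
  obtain ⟨x, hxP, hxc, hcx⟩ : ∃ x ∈ P0, x ≠ c ∧ IsConj c x := by
    obtain ⟨x, ⟨hx, hcx⟩, hne⟩ := (Set.one_lt_ncard_iff_nontrivial.1
      (by omega : 1 < (fib P0 c).ncard)).exists_ne c
    exact ⟨x, hx, hne, hcx⟩
  have hx1 : x ≠ 1 := fun h => hc1 (by rw [h, isConj_one_left] at hcx; exact hcx)
  have hxC : ¬ IsC x := fun h => (hZc x hxP h).elim hx1 hxc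
  obtain ⟨a, ha, hax⟩ := hmove hxC
  have hax' : a * x * a⁻¹ = c * x := (hcomm a ha x hxP).resolve_left hax
  have hcxP : c * x ∈ P0 := mul_mem hcP hxP
  have hcxne : c * x ≠ x := fun h => hc1 (mul_eq_right.1 h)
  have hcxc : c * x ≠ c := fun h => hx1 (mul_eq_left.1 h)
  have hfibc : ∀ t ∈ P0, IsConj c t → t = c ∨ t = x ∨ t = c * x := by
    intro t ht hct
    by_contra hcon
    push Not at hcon
    have hsub : ({t, c, x, c * x} : Set G) ⊆ fib P0 c := by
      rintro s (rfl | rfl | rfl | rfl)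
      · exact ⟨ht, hct⟩
      · exact ⟨hcP, IsConj.refl _⟩
      · exact ⟨hxP, hcx⟩
      · exact ⟨hcxP, hcx.trans (isConj_iff.2 ⟨a, hax'⟩)⟩
    have h4 : ({t, c, x, c * x} : Set G).ncard = 4 := by
      rw [Set.ncard_insert_of_notMem (fun h => ?_) (Set.toFinite _), Set.ncard_eq_three.2
        ⟨c, x, c * x, hxc.symm, hcxc.symm, hcxne.symm, rfl⟩]
      rcases h with e | e | e
      · exact hcon.1 e
      · exact hcon.2.1 e
      · exact hcon.2.2 e
    have := Set.ncard_le_ncard hsub (Set.toFinite _)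
    omega
  have hx2 : x * x = 1 := by
    obtain ⟨g, hg⟩ := isConj_iff.1 hcx
    rw [← hg, show g * c * g⁻¹ * (g * c * g⁻¹) = g * (c * c) * g⁻¹ by group, hc2, mul_one,
      mul_inv_cancel]
  have hxcc : x * c = c * x := hcC x hxP
  let V : Subgroup G :=
    { carrier := {1, c, x, c * x}
      one_mem' := Or.inl rfl
      mul_mem' := by
        have h1 : c * (c * x) = x := by rw [← mul_assoc, hc2, one_mul]
        have h2 : x * (c * x) = c := by rw [← mul_assoc, hxcc, mul_assoc, hx2, mul_one]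
        have h3 : c * x * c = x := by rw [mul_assoc, hxcc, h1]
        have h4 : c * x * x = c := by rw [mul_assoc, hx2, mul_one]
        have h5 : c * x * (c * x) = 1 := by rw [mul_assoc, h2, hc2]
        rintro s t (rfl | rfl | rfl | rfl) (rfl | rfl | rfl | rfl) <;>
          simp only [one_mul, mul_one, hc2, hx2, hxcc, h1, h2, h3, h4, h5, Set.mem_insert_iff,
            Set.mem_singleton_iff, true_or, or_true]
      inv_mem' := by
        rintro s (rfl | rfl | rfl | rfl)
        · simp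
        · rw [hcinv]; exact Or.inr (Or.inl rfl)
        · rw [inv_eq_of_mul_eq_one_right hx2]; exact Or.inr (Or.inr (Or.inl rfl))
        · rw [mul_inv_rev, hcinv, inv_eq_of_mul_eq_one_right hx2, hxcc]
          exact Or.inr (Or.inr (Or.inr rfl)) }
  have hVmem : ∀ {s : G}, s ∈ V ↔ s = 1 ∨ s = c ∨ s = x ∨ s = c * x := Iff.rfl
  have hVP : V ≤ P0 := by
    intro s hs
    rcases hVmem.1 hs with rfl | rfl | rfl | rfl
    exacts [one_mem _, hcP, hxP, hcxP]
  have hVsq : ∀ v ∈ V, v * v = 1 := by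
    intro v hv
    rcases hVmem.1 hv with rfl | rfl | rfl | rfl
    · exact mul_one 1
    · exact hc2
    · exact hx2
    · rw [mul_assoc, ← mul_assoc x c x, hxcc, mul_assoc c x x, hx2, mul_one, hc2]
  have hV4 : Nat.card V = 4 := by
    show Nat.card ({1, c, x, c * x} : Set G) = 4
    rw [Nat.card_coe_set_eq, Set.ncard_insert_of_notMem (fun h => ?_) (Set.toFinite _),
      Set.ncard_eq_three.2 ⟨c, x, c * x, hxc.symm, hcxc.symm, hcxne.symm, rfl⟩]
    rcases h with e | e | e
    · exact hc1 e.symm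
    · exact hx1 e.symm
    · exact hxc (mul_left_cancel (a := c) (by rw [← e, hc2]))
  have hVK : IsKleinFour V := isKleinFour_of_sq hV4 hVsq
  have hVfib : ∀ v ∈ V, v ≠ 1 → IsConj c v := by
    intro v hv hv1
    rcases hVmem.1 hv with rfl | rfl | rfl | rfl
    exacts [absurd rfl hv1, IsConj.refl _, hcx, hcx.trans (isConj_iff.2 ⟨a, hax'⟩)]
  -- the centraliser of x in P is V
  have hCx : ∀ y ∈ P0, y * x = x * y → y ∈ V := by
    intro y hy hyx
    by_contra hyV
    obtain ⟨g, hg⟩ := isConj_iff.1 hcx.symm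
    set C := Subgroup.centralizer ({c} : Set G) with hC
    have hPC : P0 ≤ C := fun e he => Subgroup.mem_centralizer_singleton_iff.2 (hcC e he)
    set A : Subgroup G := P0 ⊓ Subgroup.centralizer ({x} : Set G) with hA
    obtain ⟨h, hh, hle⟩ := Transfer.exists_conj_le_of_not_dvd_relIndex (p := 2) hPC P.2
      (fun hd => P.not_dvd_index (hd.trans (Subgroup.relIndex_dvd_index_of_le hPC)))
      (Q := A.map (MulAut.conj g).toMonoidHom)
      (by
        rintro _ ⟨q, hq, rfl⟩
        refine Subgroup.mem_centralizer_singleton_iff.2 ?_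
        simp only [MulEquiv.coe_toMonoidHom, MulAut.conj_apply]
        rw [← hg, show g * q * g⁻¹ * (g * x * g⁻¹) = g * (q * x) * g⁻¹ by group,
          Subgroup.mem_centralizer_singleton_iff.1 hq.2]
        group)
      ((P.2.to_le inf_le_left).map _)
    set k := h * g with hk
    have hkmap : ∀ q ∈ A, k * q * k⁻¹ ∈ P0 := fun q hq => by
      have := hle ⟨_, ⟨q, hq, rfl⟩, rfl⟩
      simpa [hk, mul_assoc] using this
    have hkx : k * x * k⁻¹ = c := by
      rw [hk, show h * g * x * (h * g)⁻¹ = h * (g * x * g⁻¹) * h⁻¹ by group, hg,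
        Subgroup.mem_centralizer_singleton_iff.1 hh, mul_inv_cancel_right]
    have hyA : y ∈ A := ⟨hy, Subgroup.mem_centralizer_singleton_iff.2 hyx⟩
    have hyxA : y * x ∈ A := mul_mem hyA ⟨hxP, Subgroup.mem_centralizer_singleton_iff.2 rfl⟩
    have hyC : ¬ IsC y := fun h => hyV (hVmem.2 ((hZc y hy h).imp_right Or.inl))
    have hyxV : y * x ∉ V := fun h => hyV (by
      have := mul_mem h (inv_mem (hVmem.2 (Or.inr (Or.inr (Or.inl rfl))) : x ∈ V))
      simpa using this)
    have hyxC : ¬ IsC (y * x) := fun h =>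
      hyxV (hVmem.2 ((hZc _ hyxA.1 h).imp_right Or.inl))
    have htwo : ∀ u ∈ A, u ∉ V → ¬ IsC u → k * u * k⁻¹ = u ∨ k * u * k⁻¹ = c * u := by
      intro u hu huV huC
      have hcu : ¬ IsConj c u := fun h => huV (hVmem.2 (Or.inr (hfibc u hu.1 h)))
      obtain ⟨b, hb, hbu⟩ := hmove huC
      rcases hoff u hu.1 huC hcu _ (hkmap u hu) (isConj_iff.2 ⟨k, rfl⟩) b hb hbu with e | e
      · exact Or.inl e
      · exact Or.inr (e.trans ((hcomm b hb u hu.1).resolve_left hbu))
    have e2 := htwo (y * x) hyxA hyxV hyxC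
    rw [show k * (y * x) * k⁻¹ = (k * y * k⁻¹) * (k * x * k⁻¹) by group, hkx] at e2
    have hyc : y * c = c * y := hcC y hy
    rcases htwo y hyA hyV hyC with e1 | e1 <;> rw [e1] at e2 <;> rcases e2 with e | e
    · exact hxc (mul_left_cancel e).symm
    · rw [hyc] at e
      exact hx1 (mul_eq_left.1 (mul_left_cancel e).symm)
    · rw [mul_assoc, hyc, ← mul_assoc, hc2, one_mul] at e
      exact hx1 (mul_eq_left.1 e.symm)
    · rw [mul_assoc] at e
      exact hxc (mul_left_cancel (mul_left_cancel e)).symm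
  -- so V has index two in P
  have hidx : V.relIndex P0 = 2 := by
    rw [Subgroup.relIndex, Subgroup.index_eq_two_iff]
    refine ⟨⟨a, ha⟩, fun b => ?_⟩
    simp only [Subgroup.mem_subgroupOf, Subgroup.coe_mul]
    have hVx : ∀ v ∈ V, v * x = x * v := fun v hv => by
      rcases hVmem.1 hv with rfl | rfl | rfl | rfl
      · rw [one_mul, mul_one]
      · exact hxcc.symm
      · rfl
      · rw [mul_assoc, hx2, mul_one, ← mul_assoc, hxcc, mul_assoc, hx2, mul_one]
    rcases hcomm b b.2 x hxP with e | e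
    · refine Or.inr ⟨hCx b b.2 (mul_inv_eq_iff_eq_mul.1 e), fun h => hcxne ?_⟩
      have h1 : (b : G) * a * x * ((b : G) * a)⁻¹ = x := by
        rw [hVx _ h, mul_inv_cancel_right]
      rw [show (b : G) * a * x * ((b : G) * a)⁻¹ = (b : G) * (a * x * a⁻¹) * (b : G)⁻¹ by group,
        hax', show (b : G) * (c * x) * (b : G)⁻¹ = ((b : G) * c) * (b : G)⁻¹ * ((b : G) * x * (b : G)⁻¹) by
          group, e, hcC b b.2, mul_inv_cancel_right] at h1
      exact h1
    · refine Or.inl ⟨hCx _ (mul_mem b.2 ha) (mul_inv_eq_iff_eq_mul.1 ?_), fun h => hcxne ?_⟩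
      · rw [show (b : G) * a * x * ((b : G) * a)⁻¹ = (b : G) * (a * x * a⁻¹) * (b : G)⁻¹ by group,
          hax', show (b : G) * (c * x) * (b : G)⁻¹ = ((b : G) * c) * (b : G)⁻¹ * ((b : G) * x * (b : G)⁻¹) by
            group, e, hcC b b.2, mul_inv_cancel_right, ← mul_assoc, hc2, one_mul]
      · rw [← e, hVx _ h, mul_inv_cancel_right]
  -- the focal subgroup lies in V
  have hfoc : P0.focalSubgroup ≤ V := by
    rw [Subgroup.focalSubgroup_def, Subgroup.closure_le]
    rintro _ ⟨hmem, y, hy, g, rfl⟩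
    by_cases hy1 : y = 1
    · subst hy1; simp
    set y' := g * y⁻¹ * g⁻¹ with hy'
    have he : ⁅y, g⁆ = y * y' := by rw [hy', commutatorElement_def]; group
    rw [he] at hmem ⊢
    have hy'P : y' ∈ P0 := by
      have := mul_mem (inv_mem hy) hmem
      simpa using this
    have hconj : IsConj y⁻¹ y' := isConj_iff.2 ⟨g, rfl⟩
    by_cases hcy : IsConj c y⁻¹
    · have h1 : y⁻¹ ∈ V := hVmem.2 (Or.inr (hfibc _ (inv_mem hy) hcy))
      have h2 : y ∈ V := by
        have := V.inv_mem h1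
        rwa [inv_inv] at this
      exact V.mul_mem h2 (hVmem.2 (Or.inr (hfibc _ hy'P (hcy.trans hconj))))
    · have hyC : ¬ IsC y⁻¹ := fun h =>
        (hZc _ (inv_mem hy) h).elim (fun e => hy1 (inv_eq_one.1 e))
          (fun e => hcy (e ▸ IsConj.refl _))
      obtain ⟨b, hb, hbu⟩ := hmove hyC
      rcases hoff _ (inv_mem hy) hyC hcy y' hy'P hconj b hb hbu with e | e
      · rw [e, mul_inv_cancel]; exact one_mem _
      · rw [e, (hcomm b hb _ (inv_mem hy)).resolve_left hbu, ← mul_assoc, hcC y hy,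
          mul_assoc, mul_inv_cancel, mul_one]
        exact hVmem.2 (Or.inr (Or.inl rfl))
  obtain ⟨N, hN, hNi, hNs⟩ := Transfer.exists_normal_focal_complement P0
    (Transfer.coprime_index_relIndex_sylow P)
  rw [← Transfer.focalSubgroup_eq_of_coprime P0 (Transfer.coprime_index_relIndex_sylow P)] at hNi
  have hNV : N ⊓ P0 ≤ V := hNi.le.trans hfoc
  set K : Subgroup G := N ⊔ V with hK
  have hKn : K.Normal := by
    rw [← Subgroup.normalizer_eq_top_iff, ← top_le_iff, ← hNs, sup_le_iff]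
    refine ⟨(le_sup_left.trans Subgroup.le_normalizer), fun e he => ?_⟩
    rw [Subgroup.mem_normalizer_iff]
    suffices hgo : ∀ d ∈ P0, ∀ s ∈ K, d * s * d⁻¹ ∈ K by
      intro s
      refine ⟨hgo e he s, fun hs => ?_⟩
      have := hgo e⁻¹ (inv_mem he) _ hs
      simpa [mul_assoc] using this
    intro d hd s hs
    obtain ⟨m, hm, v, hv, rfl⟩ := Subgroup.mem_sup_of_normal_left.1 hs
    rw [show d * (m * v) * d⁻¹ = (d * m * d⁻¹) * (d * v * d⁻¹) by group]
    refine Subgroup.mul_mem_sup (hN.conj_mem m hm d) ?_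
    rcases hcomm d hd v (hVP hv) with e | e <;> rw [e]
    · exact hv
    · exact mul_mem (hVmem.2 (Or.inr (Or.inl rfl))) hv
  haveI := hKn
  have hKP : K ⊓ P0 = V := by
    refine le_antisymm ?_ (le_inf le_sup_right hVP)
    rintro s ⟨hs, hsP⟩
    obtain ⟨m, hm, v, hv, rfl⟩ := Subgroup.mem_sup_of_normal_left.1 hs
    have hmP : m ∈ P0 := by
      have := P0.mul_mem hsP (P0.inv_mem (hVP hv))
      rwa [mul_inv_cancel_right] at this
    exact V.mul_mem (hNV ⟨hm, hmP⟩) hv
  have hKtop : K ⊔ P0 = ⊤ :=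
    top_le_iff.1 (hNs ▸ sup_le_sup_right le_sup_left _)
  have hKidx : K.index = 2 := by
    rw [← Subgroup.relIndex_top_right K, ← hKtop, sup_comm, Subgroup.relIndex_sup_right,
      ← Subgroup.inf_relIndex_right, hKP, hidx]
  have hVKsyl : ¬ 2 ∣ V.relIndex K := by
    intro hd
    have h1 : V.relIndex K * K.index = V.index := Subgroup.relIndex_mul_index le_sup_right
    have h2 : V.relIndex P0 * P0.index = V.index := Subgroup.relIndex_mul_index hVP
    rw [hKidx] at h1
    rw [hidx] at h2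
    exact P.not_dvd_index (by
      have : V.relIndex K = P0.index := by omega
      rwa [this] at hd)
  refine ⟨V, K, ⟨hKn, le_sup_right, hVK, hVKsyl, ?_, hKidx.le, fun t ht hct => ?_⟩⟩
  · -- fusion inside K
    have hsym : ∀ {s t : G}, (∃ k ∈ K, k * s * k⁻¹ = t) → ∃ k ∈ K, k * t * k⁻¹ = s := by
      rintro s t ⟨k, hk, rfl⟩
      exact ⟨k⁻¹, inv_mem hk, by group⟩
    have htr : ∀ {r s t : G}, (∃ k ∈ K, k * r * k⁻¹ = s) → (∃ k ∈ K, k * s * k⁻¹ = t) →
        ∃ k ∈ K, k * r * k⁻¹ = t := by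
      rintro r s t ⟨k, hk, rfl⟩ ⟨l, hl, rfl⟩
      exact ⟨l * k, mul_mem hl hk, by group⟩
    have hflip : ∀ {s t : G}, (∃ k ∈ K, k * s * k⁻¹ = t) →
        ∃ k ∈ K, k * (a * s * a⁻¹) * k⁻¹ = a * t * a⁻¹ := by
      rintro s t ⟨k, hk, rfl⟩
      exact ⟨a * k * a⁻¹, hKn.conj_mem k hk a, by group⟩
    have hacx : a * (c * x) * a⁻¹ = x := by
      rw [show a * (c * x) * a⁻¹ = (a * c) * a⁻¹ * (a * x * a⁻¹) by group, hax', hcC a ha,
        mul_inv_cancel_right, ← mul_assoc, hc2, one_mul]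
    have hac : a * c * a⁻¹ = c := by rw [hcC a ha, mul_inv_cancel_right]
    obtain ⟨g, hg⟩ := isConj_iff.1 hcx
    have hback : g⁻¹ * x * (g⁻¹)⁻¹ = c := by rw [← hg]; group
    have hcbase : (∃ k ∈ K, k * x * k⁻¹ = c) ∨ ∃ k ∈ K, k * (c * x) * k⁻¹ = c := by
      obtain ⟨m, hm, p, hp, he⟩ := Subgroup.mem_sup_of_normal_left.1
        (hKtop ▸ Subgroup.mem_top g⁻¹ : g⁻¹ ∈ K ⊔ P0)
      rw [← he, show m * p * x * (m * p)⁻¹ = m * (p * x * p⁻¹) * m⁻¹ by group] at hback
      rcases hcomm p hp x hxP with e | e <;> rw [e] at hback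
      · exact Or.inl ⟨m, hm, hback⟩
      · exact Or.inr ⟨m, hm, hback⟩
    have hboth : (∃ k ∈ K, k * x * k⁻¹ = c) ∧ ∃ k ∈ K, k * (c * x) * k⁻¹ = c := by
      rcases hcbase with h | h
      · have h' := hflip h
        rw [hax', hac] at h'
        exact ⟨h, h'⟩
      · have h' := hflip h
        rw [hacx, hac] at h'
        exact ⟨h', h⟩
    have htoc : ∀ v ∈ V, v ≠ 1 → ∃ k ∈ K, k * v * k⁻¹ = c := by
      intro v hv hv1
      rcases hVmem.1 hv with rfl | rfl | rfl | rfl
      · exact absurd rfl hv1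
      · exact ⟨1, one_mem _, by group⟩
      · exact hboth.1
      · exact hboth.2
    exact fun u hu hu1 v hv hv1 => htr (htoc u hu hu1) (hsym (htoc v hv hv1))
  · -- self-centralising
    obtain ⟨j, hj⟩ := ht
    have htC : t ∈ Subgroup.centralizer (V : Set G) := fun v hv => (hct v hv).symm
    have hnorm : Subgroup.zpowers t ≤ Subgroup.normalizer (V : Set G) :=
      Subgroup.zpowers_le.2 (Subgroup.centralizer_le_normalizer _ htC)
    have hp : IsPGroup 2 (V ⊔ Subgroup.zpowers t : Subgroup G) :=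
      IsPGroup.to_sup_of_normal_left' (P.2.to_le hVP)
        (IsPGroup.of_card (n := j) (by rw [Nat.card_zpowers, hj])) hnorm
    obtain ⟨k, hk⟩ := exists_conj_le P hp
    have hmap : ∀ v ∈ V, k⁻¹ * v * k ∈ V := by
      intro v hv
      by_cases hv1 : v = 1
      · subst hv1; simp
      · exact hVmem.2 (Or.inr (hfibc _ (hk v (Subgroup.mem_sup_left hv))
          ((hVfib v hv hv1).trans (isConj_iff.2 ⟨k⁻¹, by rw [inv_inv]⟩))))
    have hsurj : ∀ u ∈ V, ∃ v ∈ V, k⁻¹ * v * k = u := by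
      intro u hu
      let φ : V → V := fun v => ⟨k⁻¹ * v * k, hmap v v.2⟩
      have hφ : Function.Injective φ := fun p q h =>
        Subtype.ext (mul_left_cancel (mul_right_cancel (congrArg Subtype.val h)))
      obtain ⟨v, hv⟩ := (Finite.injective_iff_surjective.1 hφ) ⟨u, hu⟩
      exact ⟨v, v.2, congrArg Subtype.val hv⟩
    obtain ⟨v, hv, hvx⟩ := hsurj x (hVmem.2 (Or.inr (Or.inr (Or.inl rfl))))
    have htk := hk t (Subgroup.mem_sup_right (Subgroup.mem_zpowers t))
    have h1 : k⁻¹ * t * k ∈ V := hCx _ htk (by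
      rw [← hvx, show k⁻¹ * t * k * (k⁻¹ * v * k) = k⁻¹ * (t * v) * k by group, hct v hv]
      group)
    obtain ⟨u, hu, hue⟩ := hsurj _ h1
    have : u = t := mul_left_cancel (mul_right_cancel hue)
    exact this ▸ hu

/-- The configuration when the Sylow subgroup has no isolated element. -/
theorem exists_kleinData (hO : pPrimeCore 2 G = ⊥)
    (hk : 2 * Nat.card (PClasses 2 G) = Nat.card (P : Subgroup G))
    (hW : isolatedElts P = ⊥) : ∃ V K : Subgroup G, KleinData V K := by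
  obtain ⟨hsz, huniq, x, hx, hx1, -⟩ := fib_sizes P hk hW
  by_cases hab : ∀ a ∈ (P : Subgroup G), ∀ b ∈ (P : Subgroup G), a * b = b * a
  · exact data_of_comm P hsz huniq ⟨x, hx, hx1⟩ hab
  · exact data_of_not_comm P hO hsz huniq hab

end Cfsg.Agent.HalfClasses
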