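/-
A normal subgroup of index at most two with a fused Klein four Sylow 2-subgroup: the group is
`A₄`, `S₄`, or an extension of `PSL₂(q)`, given the Klein four case of Gorenstein-Walter.
-/
import Cfsg.Agent.Lib.HalfClasses.Fibre
import Cfsg.Agent.Lib.SmallOrders.Basic
import Cfsg.Agent.Lib.PSL2.Existence
import Cfsg.Agent.Lib.Transfer.Centric

set_option autoImplicit false

namespace Cfsg.Agent.HalfClasses

open Cfsg IsolatedElts

universe u

/-- The Klein four case of the Gorenstein–Walter theorem. -/
def KleinGW : Prop :=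
  ∀ (G : Type u) [Group G] [Finite G], IsSimpleGroup G → ¬ IsMulCommutative G →
    ∀ P : Sylow 2 G, IsKleinFour ↥(P : Subgroup G) →
      ∃ (F : Type) (_ : Field F) (_ : Fintype F), Odd (Fintype.card F) ∧
        Nonempty (G ≃* Matrix.ProjectiveSpecialLinearGroup (Fin 2) F)

variable {G : Type u} [Group G] [Finite G] {V K : Subgroup G}

omit [Finite G] in
theorem klein_sq (hV : IsKleinFour V) {v : G} (hv : v ∈ V) : v * v = 1 := by
  have h := Monoid.pow_exponent_eq_one (⟨v, hv⟩ : V)
  rw [hV.exponent_two, pow_two] at h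
  exact congrArg Subtype.val h

/-- A nontrivial subgroup of `K` normalised by `K` contains `V`. -/
theorem le_of_normalised (d : KleinData V K) (hO : pPrimeCore 2 G = ⊥) {M : Subgroup G}
    (hMK : M ≤ K) (hn : ∀ k ∈ K, ∀ m ∈ M, k * m * k⁻¹ ∈ M) (hM : M ≠ ⊥) : V ≤ M := by
  haveI : Fact (Nat.Prime 2) := ⟨Nat.prime_two⟩
  haveI := d.normal
  set M' : Subgroup K := M.subgroupOf K with hM'
  have hn' : M'.Normal := ⟨fun m hm k => hn k k.2 m hm⟩
  have hcard : Nat.card M' = Nat.card M := Nat.card_congr (Subgroup.subgroupOfEquivOfLe hMK).toEquiv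
  have h2 : 2 ∣ Nat.card M := by
    by_contra h
    have h1 : M' ≤ pPrimeCore 2 K := Cores.le_pPrimeCore hn'
      (hcard ▸ ((Nat.Prime.coprime_iff_not_dvd Nat.prime_two).2 h).symm)
    have hO' : (pPrimeCore 2 K).map K.subtype = ⊥ := by
      rw [Cores.pPrimeCore_map_subtype, hO, bot_inf_eq]
    rw [Subgroup.map_eq_bot_iff, Subgroup.ker_subtype] at hO'
    have hbot : M' = ⊥ := le_bot_iff.1 (h1.trans hO')
    rw [hbot, Subgroup.card_bot] at hcard
    exact hM (Subgroup.card_eq_one.1 hcard.symm)
  obtain ⟨t, ht⟩ := exists_prime_orderOf_dvd_card' (G := M) 2 h2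
  rw [← Subgroup.orderOf_coe] at ht
  obtain ⟨k, hk, hle⟩ := Transfer.exists_conj_le_of_not_dvd_relIndex (p := 2) d.le
    (IsPGroup.of_card (n := 2) (by rw [d.klein.card_four]; norm_num)) d.sylow
    (Q := Subgroup.zpowers (t : G)) (Subgroup.zpowers_le.2 (hMK t.2))
    (IsPGroup.of_card (n := 1) (by rw [Nat.card_zpowers, ht, pow_one]))
  have hv : k * t * k⁻¹ ∈ V := hle ⟨t, Subgroup.mem_zpowers _, rfl⟩
  have hv1 : k * t * k⁻¹ ≠ 1 := fun h => by
    have h1 : (t : G) = 1 := conj_eq_one_iff.1 h
    rw [h1, orderOf_one] at ht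
    omega
  intro v hvV
  by_cases h1 : v = 1
  · rw [h1]; exact one_mem _
  obtain ⟨l, hl, rfl⟩ := d.fused _ hv hv1 v hvV h1
  exact hn l hl _ (hn k hk _ t.2)

theorem ne_bot_of_kleinData (d : KleinData V K) : V ≠ ⊥ := fun h => by
  have := d.klein.card_four
  rw [h, Subgroup.card_bot] at this
  omega

/-- A normal Klein four group: `A₄` or `S₄`. -/
theorem shape_of_normal (d : KleinData V K) (hO : pPrimeCore 2 G = ⊥) (hVn : V.Normal) : Shape G := by
  haveI : Fact (Nat.Prime 2) := ⟨Nat.prime_two⟩
  haveI : Fact (Nat.Prime 3) := ⟨Nat.prime_three⟩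
  classical
  haveI := hVn
  set C : Subgroup G := Subgroup.centralizer (V : Set G) with hC
  have hVC : V ≤ C := fun a ha b hb => by
    have h1 := klein_sq d.klein (mul_mem hb ha)
    calc b * a = (b * a)⁻¹ := (inv_eq_of_mul_eq_one_right h1).symm
      _ = a * b := by
        rw [mul_inv_rev, inv_eq_of_mul_eq_one_right (klein_sq d.klein ha),
          inv_eq_of_mul_eq_one_right (klein_sq d.klein hb)]
  have hCV : C = V := by
    refine le_antisymm ?_ hVC
    haveI : C.Normal := inferInstance
    obtain ⟨S⟩ := (inferInstance : Nonempty (Sylow 2 C))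
    have hmem : ∀ x ∈ (S : Subgroup C), ((x : C) : G) ∈ V := fun x hx => by
      obtain ⟨j, hj⟩ := exists_two_pow_of_isPGroup S.2 hx
      exact d.selfcent _ ⟨j, by rw [← hj, Subgroup.orderOf_coe]⟩ fun v hv => ((x : C).2 v hv).symm
    have hOC : pPrimeCore 2 C = ⊥ := by
      have h : (pPrimeCore 2 C).map C.subtype = ⊥ := by
        rw [Cores.pPrimeCore_map_subtype, hO, bot_inf_eq]
      rwa [Subgroup.map_eq_bot_iff, Subgroup.ker_subtype, le_bot_iff] at h
    have hp : IsPGroup 2 C := isPGroup_of_noFusion S hOC (by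
      rintro x hx y hy ⟨g, hg⟩
      refine ⟨1, one_mem _, ?_⟩
      rw [one_mul, inv_one, mul_one, ← hg]
      have h1 : (g : G) * x = x * g := (g.2 _ (hmem x hx)).symm
      exact Subtype.ext (by
        rw [Subgroup.coe_mul, Subgroup.coe_mul, h1, Subgroup.coe_inv, mul_inv_cancel_right]))
    intro c hc
    obtain ⟨j, hj⟩ := exists_two_pow_of_isPGroup hp hc
    exact d.selfcent c ⟨j, hj⟩ fun v hv => (hc v hv).symm
  -- the automorphisms induced on the three involutions
  let X := {v : V // v ≠ 1}
  haveI := Fintype.ofFinite X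
  let act : G →* MulAut V := MulAut.conjNormal (H := V)
  let toX : MulAut V →* Equiv.Perm X :=
    { toFun := fun f => f.toEquiv.subtypeEquiv fun a => not_congr (map_eq_one_iff _ f.injective).symm
      map_one' := Equiv.ext fun a => Subtype.ext rfl
      map_mul' := fun f g => Equiv.ext fun a => Subtype.ext rfl }
  set φ : G →* Equiv.Perm X := toX.comp act with hφ
  have hker : φ.ker = V := by
    refine le_antisymm (fun g hg => ?_) fun g hg => ?_
    · rw [← hCV]
      intro v hv
      by_cases hv1 : v = 1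
      · subst hv1; rw [one_mul, mul_one]
      have h := congrArg (fun e : Equiv.Perm X => (((e ⟨⟨v, hv⟩, fun e => hv1 (congrArg Subtype.val e)⟩ : X) : V) : G))
        (MonoidHom.mem_ker.1 hg)
      change g * v * g⁻¹ = v at h
      exact (mul_inv_eq_iff_eq_mul.1 h).symm
    · refine MonoidHom.mem_ker.2 (Equiv.ext fun a => Subtype.ext (Subtype.ext ?_))
      show g * ((a : V) : G) * g⁻¹ = ((a : V) : G)
      rw [← (hVC hg) _ (a : V).2, mul_inv_cancel_right]
  have hX : Nat.card X = 3 := by
    haveI := Fintype.ofFinite V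
    show Nat.card {v : V // v ≠ 1} = 3
    rw [Nat.card_eq_fintype_card, Fintype.card_subtype_compl, Fintype.card_subtype_eq,
      ← Nat.card_eq_fintype_card, d.klein.card_four]
  have hG6 : ∃ r, r ∣ 6 ∧ Nat.card G = 4 * r := by
    refine ⟨Nat.card φ.range, ?_, ?_⟩
    · have h := Subgroup.card_subgroup_dvd_card φ.range
      rwa [Nat.card_perm, hX] at h
    · rw [← φ.ker.card_mul_index, Subgroup.index_ker, hker, d.klein.card_four]
  obtain ⟨r, hr6, hGr⟩ := hG6
  have hr : r = 3 ∨ r = 6 := by
    have hr' : r = 1 ∨ r = 2 ∨ r = 3 ∨ r = 6 := by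
      have := Nat.le_of_dvd (by norm_num) hr6
      interval_cases r <;> omega
    rcases hr' with e | e | e | e
    rotate_left 2
    · exact Or.inl e
    · exact Or.inr e
    all_goals
      exfalso
      obtain ⟨n, hn⟩ : ∃ n, r = 2 ^ n := by
        first
          | exact ⟨0, e⟩
          | exact ⟨1, e⟩
      have hp : IsPGroup 2 G := IsPGroup.of_card (n := n + 2) (by rw [hGr, hn, pow_add]; ring)
      haveI : Nontrivial V := Finite.one_lt_card_iff_nontrivial.1 (by rw [d.klein.card_four]; norm_num)
      obtain ⟨z, hz, hz1, hzc⟩ : ∃ z ∈ V, z ≠ 1 ∧ ∀ g : G, g * z * g⁻¹ = z := by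
        have hd : (2 : ℕ) ∣ Nat.card V := by rw [d.klein.card_four]; norm_num
        have hfix := (hp.of_surjective (MonoidHom.rangeRestrict act)
          (MonoidHom.rangeRestrict_surjective _))
        obtain ⟨b, hb, hb1⟩ := IsPGroup.exists_fixed_point_of_prime_dvd_card_of_fixed_point
          (α := V) (hfix) hd (a := 1) (fun f => map_one (f : MulAut V))
        exact ⟨b, b.2, fun e => hb1 (Subtype.ext e).symm, fun g => congrArg Subtype.val (hb ⟨act g, g, rfl⟩)⟩
      haveI := Fintype.ofFinite V
      obtain ⟨⟨u, hu⟩, hu1, huz⟩ : ∃ u : V, u ≠ 1 ∧ (u : G) ≠ z := by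
        by_contra hcon
        push Not at hcon
        have hle : (Finset.univ : Finset V) ⊆ {1, ⟨z, hz⟩} := fun u _ => by
          by_cases h : u = 1
          · simp [h]
          · have hu : u = ⟨z, hz⟩ := Subtype.ext (hcon u h)
            simp [hu]
        have := Finset.card_le_card hle
        rw [Finset.card_univ, ← Nat.card_eq_fintype_card, d.klein.card_four] at this
        have := this.trans Finset.card_le_two
        omega
      obtain ⟨k, -, hk⟩ := d.fused z hz hz1 u hu (fun e => hu1 (Subtype.ext e))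
      exact huz (hk ▸ hzc k)
  have hG : Nat.card G = 12 ∨ Nat.card G = 24 := by omega
  obtain ⟨R⟩ := (inferInstance : Nonempty (Sylow 3 G))
  have hR3 : Nat.card (R : Subgroup G) = 3 := by
    rcases hG with e | e
    · exact SmallOrders.card_sylow_subgroup (p := 3) (e := 1) (m := 4) (by rw [e]; norm_num) (by norm_num) R
    · exact SmallOrders.card_sylow_subgroup (p := 3) (e := 1) (m := 8) (by rw [e]; norm_num) (by norm_num) R
  set N := Subgroup.normalizer ((R : Subgroup G) : Set G) with hN
  have hNV : N ⊓ V = ⊥ := by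
    refine eq_bot_iff.2 fun v ⟨hvN, hv⟩ => ?_
    by_contra hv1
    rw [Subgroup.mem_bot] at hv1
    obtain ⟨t, ht⟩ := exists_prime_orderOf_dvd_card' (G := (R : Subgroup G)) 3 (by rw [hR3])
    rw [← Subgroup.orderOf_coe] at ht
    set s : G := (t : G) with hs
    have hs3 : s * (s * s) = 1 := by
      have := pow_orderOf_eq_one s
      rwa [ht, pow_succ', pow_two] at this
    have hRV : (R : Subgroup G) ⊓ V = ⊥ := by
      refine disjoint_iff.1 (Subgroup.disjoint_of_coprime_natCard ?_)
      rw [hR3, d.klein.card_four]; norm_num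
    have hsv : s * v * s⁻¹ = v := by
      have h1 : s * v * s⁻¹ * v⁻¹ ∈ (R : Subgroup G) ⊓ V := by
        refine ⟨?_, V.mul_mem (hVn.conj_mem v hv s) (V.inv_mem hv)⟩
        rw [show s * v * s⁻¹ * v⁻¹ = s * (v * s⁻¹ * v⁻¹) by group]
        exact mul_mem t.2 ((Subgroup.mem_normalizer_iff.1 hvN _).1 (inv_mem t.2))
      rw [hRV, Subgroup.mem_bot, mul_inv_eq_one] at h1
      exact h1
    have hsC : s ∉ V := fun h => by
      have := klein_sq d.klein h
      rw [this, mul_one] at hs3
      rw [hs3, orderOf_one] at ht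
      omega
    obtain ⟨u, hu, hsu⟩ : ∃ u ∈ V, s * u * s⁻¹ ≠ u := by
      by_contra hcon
      push Not at hcon
      apply hsC
      rw [← hCV]
      exact fun w hw => (mul_inv_eq_iff_eq_mul.1 (hcon w hw)).symm
    have hu1 : u ≠ 1 := fun e => hsu (by rw [e]; group)
    have huv : u ≠ v := fun e => hsu (by rw [e, hsv])
    set u' := s * u * s⁻¹ with hu'
    have hu'V : u' ∈ V := hVn.conj_mem u hu s
    have hu'1 : u' ≠ 1 := fun e => hu1 (conj_eq_one_iff.1 e)
    have hu'v : u' ≠ v := fun e => huv (by
      have h1 : s * u * s⁻¹ = s * v * s⁻¹ := e.trans hsv.symm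
      exact mul_left_cancel (mul_right_cancel h1))
    have hprod : u' = v * u := by
      haveI := d.klein
      have hh := IsKleinFour.eq_mul_of_ne_all (x := (⟨v, hv⟩ : V)) (y := ⟨u, hu⟩) (z := ⟨u', hu'V⟩)
        (fun e => hv1 (congrArg Subtype.val e)) (fun e => hu1 (congrArg Subtype.val e))
        (fun e => huv.symm (congrArg Subtype.val e)) (fun e => hu'1 (congrArg Subtype.val e))
        (fun e => hu'v (congrArg Subtype.val e)) (fun e => hsu (congrArg Subtype.val e))
      exact congrArg Subtype.val hh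
    have hstep : s * u' * s⁻¹ = u := by
      rw [hprod, show s * (v * u) * s⁻¹ = (s * v * s⁻¹) * (s * u * s⁻¹) by group, hsv, ← hu', hprod,
        ← mul_assoc, klein_sq d.klein hv, one_mul]
    have hthree : s * (s * (s * u * s⁻¹) * s⁻¹) * s⁻¹ = u := by
      rw [show s * (s * (s * u * s⁻¹) * s⁻¹) * s⁻¹ = (s * (s * s)) * u * (s * (s * s))⁻¹ by group,
        hs3, inv_one, one_mul, mul_one]
    rw [← hu', hstep] at hthree
    exact hsu hthree
  have h4 : N.index = 4 := by
    have hge : 4 ≤ N.index := by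
      rw [← d.klein.card_four, Subgroup.index_eq_card]
      refine Nat.card_le_card_of_injective (fun v : V => ((v : G) : G ⧸ N)) fun a b h => ?_
      rw [QuotientGroup.eq] at h
      have : (a : G)⁻¹ * b ∈ N ⊓ V := ⟨h, V.mul_mem (V.inv_mem a.2) b.2⟩
      rw [hNV, Subgroup.mem_bot, inv_mul_eq_one] at this
      exact Subtype.ext this
    have hmod := card_sylow_modEq_one (p := 3) (G := G)
    rw [R.card_eq_index_normalizer] at hmod
    change N.index ≡ 1 [MOD 3] at hmod
    have h3N : 3 ∣ Nat.card N := hR3 ▸ Subgroup.card_dvd_of_le Subgroup.le_normalizer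
    obtain ⟨m, hm⟩ := h3N
    have h1 := N.card_mul_index
    rw [hm] at h1
    have hm0 : 0 < m := by
      rcases Nat.eq_zero_or_pos m with e | e
      · rw [e] at hm
        have := Nat.card_pos (α := N)
        omega
      · exact e
    have hle : N.index ≤ 8 := by
      have : 3 * N.index ≤ 3 * m * N.index := Nat.mul_le_mul_right _ (by omega)
      omega
    have hmod' : N.index % 3 = 1 := hmod
    have : N.index = 4 ∨ N.index = 7 := by omega
    rcases this with e | e
    · exact e
    · exfalso
      rw [e] at h1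
      omega
  have hcore : N.normalCore = ⊥ := by
    haveI := N.normalCore_normal
    have hd : N.normalCore ⊓ V = ⊥ :=
      le_bot_iff.1 ((inf_le_inf_right V N.normalCore_le).trans hNV.le)
    refine eq_bot_iff.2 fun x hx => ?_
    rw [Subgroup.mem_bot]
    have hxV : x ∈ V := by
      rw [← hCV]
      intro v hv
      exact (Subgroup.commute_of_normal_of_disjoint N.normalCore V inferInstance hVn
        (disjoint_iff.2 hd) x v hx hv).symm.eq
    exact Subgroup.mem_bot.1 (hd.le ⟨hx, hxV⟩)
  haveI := Fintype.ofFinite (G ⧸ N)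
  have e4 : G ⧸ N ≃ Fin 4 :=
    Fintype.equivFinOfCardEq (by rw [← Nat.card_eq_fintype_card, ← Subgroup.index_eq_card, h4])
  let ψ : G →* Equiv.Perm (Fin 4) :=
    e4.permCongrHom.toMonoidHom.comp (MulAction.toPermHom G (G ⧸ N))
  have hψ : Function.Injective ψ := by
    refine (e4.permCongrHom.injective).comp ?_
    rw [← MonoidHom.ker_eq_bot_iff, ← Subgroup.normalCore_eq_ker, hcore]
  have hS4 : Nat.card (Equiv.Perm (Fin 4)) = 24 := by
    rw [Nat.card_perm, Nat.card_fin]; rfl
  have hrange : Nat.card ψ.range = Nat.card G :=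
    (Nat.card_congr (ψ.ofInjective hψ).toEquiv).symm
  rcases hG with e | e
  · refine Or.inl ⟨(ψ.ofInjective hψ).trans (MulEquiv.subgroupCongr ?_)⟩
    refine Equiv.Perm.eq_alternatingGroup_of_index_eq_two ?_
    have h := ψ.range.card_mul_index
    rw [hrange, hS4, e] at h
    omega
  · exact Or.inr (Or.inl ⟨MulEquiv.ofBijective ψ
      ((Nat.bijective_iff_injective_and_card ψ).2 ⟨hψ, by rw [e, hS4]⟩)⟩)

/-- The field size of `PSL₂` with Klein four Sylow 2-subgroups. -/
theorem mod_eight {F : Type} [Field F] [Fintype F] (hodd : Odd (Fintype.card F))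
    (h4 : ∀ d, Nat.card (Matrix.ProjectiveSpecialLinearGroup (Fin 2) F) = 4 * d → Odd d)
    (hdvd : 4 ∣ Nat.card (Matrix.ProjectiveSpecialLinearGroup (Fin 2) F)) :
    Fintype.card F % 8 = 3 ∨ Fintype.card F % 8 = 5 := by
  have h := PSL2.card_psl_mul (F := F)
  rw [Nat.card_eq_fintype_card (α := F)] at h
  obtain ⟨j, hj⟩ := hodd
  rw [hj, Nat.gcd_eq_left (show 2 ∣ 2 * j + 1 - 1 by omega), Nat.add_sub_cancel] at h
  obtain ⟨d, hd⟩ := hdvd
  obtain ⟨e, he⟩ := h4 d hd
  change 2 * Nat.card (Matrix.ProjectiveSpecialLinearGroup (Fin 2) F) = _ at h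
  rw [hd, he] at h
  rw [hj]
  by_contra hcon
  push Not at hcon
  have h8 : j % 4 = 0 ∨ j % 4 = 3 := by omega
  obtain ⟨i, hi⟩ : ∃ i, j = 4 * i ∨ j = 4 * i + 3 := ⟨j / 4, by omega⟩
  rcases hi with rfl | rfl <;> ring_nf at h <;> omega

/-- The configuration determines the group. -/
theorem shape_of_kleinData (hGW : KleinGW.{u}) (d : KleinData V K) (hO : pPrimeCore 2 G = ⊥) :
    Shape G := by
  haveI : Fact (Nat.Prime 2) := ⟨Nat.prime_two⟩
  haveI := d.normal
  have hVbot := ne_bot_of_kleinData d
  -- a minimal normal subgroup inside K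
  obtain ⟨N, -, ⟨hNn, hN1, hNK⟩, hmin⟩ :=
    exists_minimal_le_of_wellFoundedLT (fun M : Subgroup G => M.Normal ∧ M ≠ ⊥ ∧ M ≤ K) K
      ⟨d.normal, fun h => hVbot (le_bot_iff.1 (d.le.trans h.le)), le_rfl⟩
  haveI := hNn
  have hmin' : ∀ M : Subgroup G, M.Normal → M ≠ ⊥ → M ≤ N → M = N := fun M hM hM1 hMN =>
    le_antisymm hMN (hmin ⟨hM, hM1, hMN.trans hNK⟩ hMN)
  have hVN : V ≤ N := le_of_normalised d hO hNK (fun k _ m hm => hNn.conj_mem m hm k) hN1
  have hsylN : ¬ 2 ∣ V.relIndex N := fun h =>
    d.sylow (h.trans (Subgroup.relIndex_mul_relIndex V N K hVN hNK ▸ dvd_mul_right _ _))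
  have hON : pPrimeCore 2 N = ⊥ := by
    have h : (pPrimeCore 2 N).map N.subtype = ⊥ := by
      rw [Cores.pPrimeCore_map_subtype, hO, bot_inf_eq]
    rwa [Subgroup.map_eq_bot_iff, Subgroup.ker_subtype, le_bot_iff] at h
  have hVp : IsPGroup 2 (V.subgroupOf N) :=
    (IsPGroup.of_card (n := 2) (by rw [d.klein.card_four]; norm_num : Nat.card V = 2 ^ 2)).of_equiv
      (Subgroup.subgroupOfEquivOfLe hVN).symm
  let S : Sylow 2 N := hVp.toSylow hsylN
  by_cases hab : IsMulCommutative N
  · -- abelian: N = V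
    have hp : IsPGroup 2 N := by
      refine isPGroup_of_noFusion S hON ?_
      rintro x - y - ⟨g, hg⟩
      refine ⟨1, one_mem _, ?_⟩
      rw [one_mul, inv_one, mul_one, ← hg, hab.is_comm.comm g x, mul_inv_cancel_right]
    have hVeq : N = V := by
      refine le_antisymm (fun n hn => ?_) hVN
      have h1 : (S : Subgroup N) = ⊤ := (S.3 (hp.to_subgroup ⊤) le_top).symm
      have h2 : (⟨n, hn⟩ : N) ∈ (S : Subgroup N) := h1 ▸ Subgroup.mem_top _
      exact h2
    exact shape_of_normal d hO (hVeq ▸ hNn)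
  -- nonabelian: N is simple
  have hZ : Subgroup.center N = ⊥ := by
    by_contra hne
    apply hab
    have h1 := hmin' ((Subgroup.center N).map N.subtype)
      (Cores.map_subtype_normal_of_characteristic N (Subgroup.center N))
      (fun h => hne (by rwa [Subgroup.map_eq_bot_iff, Subgroup.ker_subtype, le_bot_iff] at h))
      (Subgroup.map_subtype_le _)
    have h2 : Subgroup.center N = ⊤ := Subgroup.map_injective N.subtype_injective
      (h1.trans (by rw [← MonoidHom.range_eq_map, Subgroup.range_subtype]))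
    exact ⟨⟨fun a b => (Subgroup.mem_center_iff.1 (h2 ▸ Subgroup.mem_top b) a)⟩⟩
  haveI : Nontrivial N := (Subgroup.nontrivial_iff_ne_bot N).2 hN1
  have hsimple : IsSimpleGroup N := by
    constructor
    intro M₀ hM₀
    by_cases hM₀1 : M₀ = ⊥
    · exact Or.inl hM₀1
    right
    obtain ⟨M, hMle, ⟨hMn, hM1⟩, hMmin⟩ :=
      exists_minimal_le_of_wellFoundedLT (fun M : Subgroup N => M.Normal ∧ M ≠ ⊥) M₀ ⟨hM₀, hM₀1⟩
    haveI := hMn
    refine top_le_iff.1 (le_trans ?_ hMle)
    -- M meets V
    have h2 : 2 ∣ Nat.card M := by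
      by_contra h
      exact hM1 (le_bot_iff.1 (hON ▸ Cores.le_pPrimeCore hMn
        ((Nat.Prime.coprime_iff_not_dvd Nat.prime_two).2 h).symm))
    by_cases hVM : (S : Subgroup N) ≤ M
    · -- M is normal in G
      have hall : ∀ g : G, ∀ m ∈ M, ∀ h : g * (m : G) * g⁻¹ ∈ N, (⟨_, h⟩ : N) ∈ M := by
        intro g
        let e : MulAut N := MulAut.conjNormal g
        set M' : Subgroup N := M.map e.toMonoidHom with hM'
        have hM'n : M'.Normal := hMn.map _ e.surjective
        have hSM : (S : Subgroup N) ≤ M' := by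
          obtain ⟨n, hn⟩ := MulAction.exists_smul_eq N (S.mapSurjective (f := e.toMonoidHom) e.surjective) S
          intro x hx
          rw [← hn] at hx
          obtain ⟨y, ⟨z, hz, rfl⟩, rfl⟩ := hx
          exact hM'n.conj_mem _ ⟨z, hVM hz, rfl⟩ n
        have hne : M ⊓ M' ≠ ⊥ := by
          intro h
          have h1 : (S : Subgroup N) ≤ ⊥ := h ▸ le_inf hVM hSM
          have h2 : V ≤ ⊥ := fun v hv => by
            have : (⟨v, hVN hv⟩ : N) ∈ (S : Subgroup N) := hv
            have := h1 this
            rw [Subgroup.mem_bot] at this ⊢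
            exact congrArg Subtype.val this
          exact hVbot (le_bot_iff.1 h2)
        have hle : M ≤ M' := le_trans (hMmin ⟨inferInstance, hne⟩ inf_le_left) inf_le_right
        have hEq : M = M' := Subgroup.eq_of_le_of_card_ge hle
          (le_of_eq (Nat.card_congr (e.subgroupMap M).toEquiv).symm)
        intro m hm h
        rw [hEq]
        exact ⟨m, hm, Subtype.ext rfl⟩
      have hn : (M.map N.subtype).Normal := ⟨fun x hx g => by
        obtain ⟨m, hm, rfl⟩ := hx
        exact ⟨⟨_, hNn.conj_mem _ m.2 g⟩, hall g m hm _, rfl⟩⟩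
      have h1 := hmin' _ hn
        (fun h => hM1 (by rwa [Subgroup.map_eq_bot_iff, Subgroup.ker_subtype, le_bot_iff] at h))
        (Subgroup.map_subtype_le _)
      exact (Subgroup.map_injective N.subtype_injective
        (h1.trans (by rw [← MonoidHom.range_eq_map, Subgroup.range_subtype]))).ge
    · -- otherwise M has a central involution
      exfalso
      have hSc : Nat.card (S : Subgroup N) = 4 := by
        show Nat.card (V.subgroupOf N) = 4
        rw [Nat.card_congr (Subgroup.subgroupOfEquivOfLe hVN).toEquiv, d.klein.card_four]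
      have hrel : ¬ 2 ∣ ((S : Subgroup N).subgroupOf M).index :=
        Transfer.not_dvd_relIndex_inf (C := M) S.not_dvd_index
      let T : Sylow 2 M := (S.2.comap_of_injective M.subtype M.subtype_injective).toSylow hrel
      have hT : Nat.card (T : Subgroup M) ≤ 2 := by
        by_contra hcon
        apply hVM
        have hTc : Nat.card (T : Subgroup M) = Nat.card ↥((S : Subgroup N) ⊓ M) := by
          show Nat.card ((S : Subgroup N).subgroupOf M) = _
          rw [← Cores.card_map_subtype M, Subgroup.subgroupOf_map_subtype]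
        have hd := Subgroup.card_dvd_of_le (inf_le_left : (S : Subgroup N) ⊓ M ≤ S)
        rw [hSc] at hd
        have hle := Nat.le_of_dvd (by norm_num) hd
        have h4 : Nat.card ↥((S : Subgroup N) ⊓ M) = 4 := by
          rcases Nat.eq_or_lt_of_le hle with h | h
          · exact h
          · have : Nat.card ↥((S : Subgroup N) ⊓ M) = 3 := by omega
            rw [this] at hd
            norm_num at hd
        exact inf_eq_left.1 (Subgroup.eq_of_le_of_card_ge inf_le_left (by rw [hSc, h4]))
      have hMp : IsPGroup 2 M := by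
        have hOM : pPrimeCore 2 M = ⊥ := by
          have h : (pPrimeCore 2 M).map M.subtype = ⊥ := by
            rw [Cores.pPrimeCore_map_subtype, hON, bot_inf_eq]
          rwa [Subgroup.map_eq_bot_iff, Subgroup.ker_subtype, le_bot_iff] at h
        refine isPGroup_of_noFusion T hOM ?_
        rintro x hx y hy ⟨g, hg⟩
        refine ⟨1, one_mem _, ?_⟩
        rw [one_mul, inv_one, mul_one]
        by_contra hxy
        have hx1 : x ≠ 1 := fun e => hxy (by rw [← hg, e]; group)
        have hy1 : y ≠ 1 := fun e => hxy (by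
          rw [e] at hg
          rw [conj_eq_one_iff.1 hg, e])
        have h3 : 3 ≤ Nat.card (T : Subgroup M) := by
          classical
          haveI := Fintype.ofFinite (T : Subgroup M)
          rw [Nat.card_eq_fintype_card, ← Finset.card_univ]
          refine le_of_eq_of_le ?_ (Finset.card_le_card
            (Finset.subset_univ {(1 : (T : Subgroup M)), ⟨x, hx⟩, ⟨y, hy⟩}))
          refine (Finset.card_eq_three.2 ⟨_, _, _, ?_, ?_, ?_, rfl⟩).symm
          · exact fun e => hx1 (congrArg Subtype.val e).symm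
          · exact fun e => hy1 (congrArg Subtype.val e).symm
          · exact fun e => hxy (congrArg Subtype.val e)
        omega
      have hMc : Nat.card M = 2 := by
        have h1 : (T : Subgroup M) = ⊤ := (T.3 (hMp.to_subgroup ⊤) le_top).symm
        rw [h1, Subgroup.card_top] at hT
        have := Nat.le_of_dvd Nat.card_pos h2
        omega
      apply hM1
      refine eq_bot_iff.2 fun m hm => ?_
      rw [← hZ]
      refine Subgroup.mem_center_iff.2 fun n => ?_
      by_cases hm1 : m = 1
      · subst hm1; simp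
      have hn1 : n * m * n⁻¹ ≠ 1 := fun e => hm1 (conj_eq_one_iff.1 e)
      obtain ⟨a, -, huniq⟩ := (Nat.card_eq_two_iff' (1 : M)).1 hMc
      have h1 := huniq ⟨m, hm⟩ (fun e => hm1 (congrArg Subtype.val e))
      have h3 := huniq ⟨_, hMn.conj_mem m hm n⟩ (fun e => hn1 (congrArg Subtype.val e))
      exact mul_inv_eq_iff_eq_mul.1 (congrArg Subtype.val (h3.trans h1.symm))
  haveI := hsimple
  have hSK : IsKleinFour (S : Subgroup N) := by
    refine isKleinFour_of_sq ?_ fun v hv => ?_
    · show Nat.card (V.subgroupOf N) = 4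
      rw [Nat.card_congr (Subgroup.subgroupOfEquivOfLe hVN).toEquiv, d.klein.card_four]
    · exact Subtype.ext (klein_sq d.klein hv)
  obtain ⟨F, iF, jF, hodd, ⟨e⟩⟩ := hGW N hsimple hab S hSK
  have hScard : Nat.card (S : Subgroup N) = 4 := hSK.card_four
  have hcardN : Nat.card N = 4 * (S : Subgroup N).index := by
    rw [← (S : Subgroup N).card_mul_index, hScard]
  have hpsl : Nat.card (Matrix.ProjectiveSpecialLinearGroup (Fin 2) F) = 4 * (S : Subgroup N).index := by
    rw [← Nat.card_congr e.toEquiv, hcardN]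
  have h8 : Fintype.card F % 8 = 3 ∨ Fintype.card F % 8 = 5 := by
    refine mod_eight hodd (fun m hm => ?_) ⟨_, hpsl⟩
    rw [hpsl] at hm
    have : m = (S : Subgroup N).index := by omega
    rw [this]
    exact Nat.odd_iff.2 (Nat.two_dvd_ne_zero.1 S.not_dvd_index)
  refine Or.inr (Or.inr ⟨N, hNn, hsimple, hab, ?_, F, iF, jF, ?_, h8, ⟨e⟩⟩)
  · -- the centraliser
    have hC : (Subgroup.centralizer (N : Set G)).Normal := inferInstance
    set C := Subgroup.centralizer (N : Set G) with hCdef
    have hCK : C ⊓ K = ⊥ := by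
      by_contra hne
      have hle : V ≤ C ⊓ K := le_of_normalised d hO inf_le_right
        (fun k hk m hm => ⟨hC.conj_mem m hm.1 k, d.normal.conj_mem m hm.2 k⟩) hne
      apply hVbot
      refine eq_bot_iff.2 fun v hv => ?_
      have h1 : (⟨v, hVN hv⟩ : N) ∈ Subgroup.center N :=
        Subgroup.mem_center_iff.2 fun n => Subtype.ext ((hle hv).1 n n.2)
      rw [hZ, Subgroup.mem_bot] at h1
      exact Subgroup.mem_bot.2 (congrArg Subtype.val h1)
    refine eq_bot_iff.2 fun c hc => ?_
    have hc2 : c * c ∈ K := by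
      have hidx := d.index
      have hpos : 0 < K.index := Nat.pos_of_ne_zero Subgroup.index_ne_zero_of_finite
      rcases (show K.index = 1 ∨ K.index = 2 by omega) with h | h
      · rw [Subgroup.index_eq_one.1 h]; exact Subgroup.mem_top _
      · exact Subgroup.mul_self_mem_of_index_two h c
    have hcc : c * c = 1 := Subgroup.mem_bot.1 (hCK.le ⟨mul_mem hc hc, hc2⟩)
    have hcV : c ∈ V := by
      refine d.selfcent c ?_ fun v hv => (hc v (hVN hv)).symm
      obtain ⟨i, -, hi⟩ := (Nat.dvd_prime_pow Nat.prime_two).1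
        (orderOf_dvd_of_pow_eq_one (x := c) (n := 2 ^ 1) (by rw [pow_one, pow_two, hcc]))
      exact ⟨i, hi⟩
    exact hCK.le ⟨hc, d.le hcV⟩
  · by_contra hq
    have h3 : Fintype.card F = 3 := by omega
    have hc := PSL2.card_psl_mul (F := F)
    rw [Nat.card_eq_fintype_card (α := F), h3] at hc
    norm_num at hc
    change 2 * Nat.card (Matrix.ProjectiveSpecialLinearGroup (Fin 2) F) = _ at hc
    have hne : (S : Subgroup N) ≠ ⊤ := fun h => by
      rw [h, Subgroup.index_top] at hpsl
      omega
    have h5 := SmallOrders.five_le_index hab hne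
    omega

end Cfsg.Agent.HalfClasses
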