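/-
Statement S3896 from the Klein four case of Gorenstein-Walter.
-/
import Cfsg.Agent.Lib.HalfClasses.Klein

set_option autoImplicit false

namespace Cfsg.Agent.HalfClasses

open Cfsg

universe u

/-- Half as many classes of 2-elements as elements of a Sylow 2-subgroup. -/
theorem result_of_klein (hGW : KleinGW.{u}) {G : Type u} [Group G] [Finite G] (P : Sylow 2 G)
    (hO : Cfsg.pPrimeCore 2 G = ⊥)
    (hk : 2 * Nat.card {c : ConjClasses G // ∀ x ∈ c.carrier, ∃ k : ℕ, orderOf x = 2 ^ k} =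
      Nat.card ↥(P : Subgroup G)) :
    Nonempty (G ⧸ Subgroup.center G ≃* ↥(alternatingGroup (Fin 4))) ∨
      Nonempty (G ⧸ Subgroup.center G ≃* Equiv.Perm (Fin 4)) ∨
      ∃ S : Subgroup (G ⧸ Subgroup.center G), S.Normal ∧ IsSimpleGroup ↥S ∧ ¬ IsMulCommutative ↥S ∧
        Subgroup.centralizer (S : Set (G ⧸ Subgroup.center G)) = ⊥ ∧
        ∃ (F : Type) (_ : Field F) (_ : Fintype F), 3 < Fintype.card F ∧
          (Fintype.card F % 8 = 3 ∨ Fintype.card F % 8 = 5) ∧
          Nonempty (↥S ≃* Matrix.ProjectiveSpecialLinearGroup (Fin 2) F) :=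
  reduce (fun H _ _ Q hOH hkH hW => by
    obtain ⟨V, K, d⟩ := exists_kleinData Q hOH hkH hW
    exact shape_of_kleinData hGW d hOH) (Nat.card G) G P rfl hO hk

end Cfsg.Agent.HalfClasses
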